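import Mathlib
import Cfsg.Prelude.Def_Solvable
import Cfsg.Prelude.Def_Transfer
import Cfsg.Prelude.Def_CaseTheorems

set_option autoImplicit false

/-! Transport along isomorphisms of the statement that the largest normal 2-subgroup of a group is
extraspecial of order `2 ^ 9` with quotient the symplectic group of degree six over the field with
two elements. -/

namespace Cfsg.Agent.Helper9.Co2C

open Cfsg

/-- the image of the centre under an isomorphism. -/
theorem map_center_equiv {A B : Type*} [Group A] [Group B] (e : A ≃* B) :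
    (Subgroup.center A).map e.toMonoidHom = Subgroup.center B := by
  ext y
  constructor
  · rintro ⟨x, hx, rfl⟩
    rw [Subgroup.mem_center_iff]
    intro b
    obtain ⟨a, rfl⟩ := e.surjective b
    have h := Subgroup.mem_center_iff.1 hx a
    change e a * e x = e x * e a
    rw [← map_mul, ← map_mul, h]
  · intro hy
    rw [Subgroup.mem_map]
    refine ⟨e.symm y, ?_, e.apply_symm_apply y⟩
    rw [Subgroup.mem_center_iff]
    intro a
    apply e.injective
    rw [map_mul, map_mul, e.apply_symm_apply]
    exact Subgroup.mem_center_iff.1 hy (e a)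

/-- the image of the derived subgroup under an isomorphism. -/
theorem map_commutator_equiv {A B : Type*} [Group A] [Group B] (e : A ≃* B) :
    (commutator A).map e.toMonoidHom = commutator B := by
  rw [commutator_def, commutator_def, Subgroup.map_commutator]
  have : (⊤ : Subgroup A).map e.toMonoidHom = ⊤ := by
    rw [← MonoidHom.range_eq_map]
    exact MonoidHom.range_eq_top.2 e.surjective
  rw [this]

/-- the image of the Frattini subgroup under an isomorphism. -/
theorem map_frattini_equiv {A B : Type*} [Group A] [Group B] (e : A ≃* B) :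
    (frattini A).map e.toMonoidHom = frattini B := by
  apply le_antisymm
  · rw [Subgroup.map_le_iff_le_comap]
    exact frattini_le_comap_frattini_of_surjective (φ := e.toMonoidHom) e.surjective
  · intro y hy
    have h := frattini_le_comap_frattini_of_surjective (φ := e.symm.toMonoidHom) e.symm.surjective hy
    exact ⟨e.symm y, h, e.apply_symm_apply y⟩

/-- extraspecial groups under isomorphisms. -/
theorem isExtraspecial_congr {p : ℕ} {A B : Type*} [Group A] [Group B] (e : A ≃* B)
    (h : IsExtraspecial p A) : IsExtraspecial p B := by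
  obtain ⟨⟨h1, h2, h3⟩, h4⟩ := h
  refine ⟨⟨h1.of_equiv e, ?_, ?_⟩, ?_⟩
  · rw [← map_frattini_equiv e, ← map_center_equiv e, h2]
  · rw [← map_commutator_equiv e, ← map_center_equiv e, h3]
  · rw [← map_center_equiv e, ← h4]
    exact Nat.card_congr (e.subgroupMap (Subgroup.center A)).toEquiv.symm

/-- the image of the largest normal `p`-subgroup under an isomorphism, an inclusion. -/
theorem map_pCore_equiv_le {p : ℕ} {A B : Type*} [Group A] [Group B] (e : A ≃* B) :
    (pCore p A).map e.toMonoidHom ≤ pCore p B := by
  unfold pCore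
  rw [Subgroup.map_le_iff_le_comap]
  apply sSup_le
  rintro N ⟨hNn, hNp⟩
  rw [← Subgroup.map_le_iff_le_comap]
  apply le_sSup
  refine ⟨?_, ?_⟩
  · exact hNn.map e.toMonoidHom e.surjective
  · exact hNp.of_equiv (e.subgroupMap N)

/-- the image of the largest normal `p`-subgroup under an isomorphism. -/
theorem map_pCore_equiv {p : ℕ} {A B : Type*} [Group A] [Group B] (e : A ≃* B) :
    (pCore p A).map e.toMonoidHom = pCore p B := by
  apply le_antisymm (map_pCore_equiv_le e)
  intro y hy
  have h := map_pCore_equiv_le (p := p) e.symm (Subgroup.mem_map.2 ⟨y, hy, rfl⟩)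
  exact Subgroup.mem_map.2 ⟨e.symm y, h, e.apply_symm_apply y⟩

/-- the statement on the group of the centralizer. -/
def GoodC (C : Type*) [Group C] : Prop :=
  IsExtraspecial 2 ↥(pCore 2 C) ∧ Nat.card ↥(pCore 2 C) = 2 ^ 9 ∧
    Nonempty (C ⧸ pCore 2 C ≃* Matrix.symplecticGroup (Fin 3) (ZMod 2))

/-- the statement under isomorphisms. -/
theorem goodC_congr {A B : Type*} [Group A] [Group B] (e : A ≃* B) (h : GoodC A) : GoodC B := by
  obtain ⟨h1, h2, ⟨f⟩⟩ := h
  have hm := map_pCore_equiv (p := 2) e
  have e1 : ↥(pCore 2 A) ≃* ↥(pCore 2 B) :=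
    (e.subgroupMap (pCore 2 A)).trans (MulEquiv.subgroupCongr hm)
  refine ⟨isExtraspecial_congr e1 h1, ?_, ?_⟩
  · rw [← h2]
    exact Nat.card_congr e1.toEquiv.symm
  · have e2 : A ⧸ pCore 2 A ≃* B ⧸ pCore 2 B := QuotientGroup.congr (pCore 2 A) (pCore 2 B) e hm
    exact ⟨e2.symm.trans f⟩

end Cfsg.Agent.Helper9.Co2C
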