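import Mathlib
import Cfsg.Agent.Helper9.Core
import Cfsg.Agent.Helper9.J3Z.Abs
import Cfsg.Agent.Helper9.Co2C.AbsA

set_option autoImplicit false

/-! Subgroups generated by sets: finite sets stable under the generators, generators that commute
and have trivial squares modulo a central involution; permutations that respect a map; normal
2-subgroups of permutation groups; the structure of a group from a normal extraspecial subgroup
that is the kernel of a homomorphism onto a group without normal 2-subgroups. -/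

namespace Cfsg.Agent.Helper9.Co2C

open Cfsg
open scoped commutatorElement

/-- a finite set that contains the neutral element and is stable under the left multiplications
by the generators contains the subgroup generated. -/
theorem closure_subset_of_mul_mem {Y : Type*} [Group Y] (gens : Set Y) (M : Set Y) (hfin : M.Finite)
    (h1 : (1 : Y) ∈ M) (hmul : ∀ s ∈ gens, ∀ x ∈ M, s * x ∈ M) :
    ∀ y ∈ Subgroup.closure gens, y ∈ M := by
  have key : ∀ y ∈ Subgroup.closure gens, ∀ x ∈ M, y * x ∈ M := by
    intro y hy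
    induction hy using Subgroup.closure_induction with
    | mem s hs => exact hmul s hs
    | one => intro x hx; rwa [one_mul]
    | mul a b _ _ iha ihb =>
      intro x hx
      rw [mul_assoc]
      exact iha _ (ihb x hx)
    | inv a _ iha =>
      intro x hx
      have : Finite ↥M := hfin
      let f : ↥M → ↥M := fun z => ⟨a * z.1, iha z.1 z.2⟩
      have hinj : Function.Injective f := by
        intro z z' h
        have h' : a * z.1 = a * z'.1 := congrArg Subtype.val h
        exact Subtype.ext (mul_left_cancel h')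
      obtain ⟨z, hz⟩ := (Finite.injective_iff_surjective.1 hinj) ⟨x, hx⟩
      have hz' : a * z.1 = x := congrArg Subtype.val hz
      have : a⁻¹ * x = z.1 := by rw [← hz', inv_mul_cancel_left]
      rw [this]
      exact z.2
  intro y hy
  have := key y hy 1 h1
  rwa [mul_one] at this

section central

variable {Y : Type*} [Group Y] (t : Y)

/-- the subgroup of the neutral element and an involution. -/
def pairSub (ht : t * t = 1) : Subgroup Y where
  carrier := {z | z = 1 ∨ z = t}
  mul_mem' := by
    rintro a b (rfl | rfl) (rfl | rfl)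
    · left; exact one_mul _
    · right; exact one_mul _
    · right; exact mul_one _
    · left; exact ht
  one_mem' := Or.inl rfl
  inv_mem' := by
    rintro a (rfl | rfl)
    · left; exact inv_one
    · right; exact inv_eq_of_mul_eq_one_right ht

theorem mem_pairSub (ht : t * t = 1) (z : Y) : z ∈ pairSub t ht ↔ z = 1 ∨ z = t := Iff.rfl

theorem commElt_mul_left (x y z : Y) : ⁅x * y, z⁆ = x * ⁅y, z⁆ * x⁻¹ * ⁅x, z⁆ := by
  simp only [commutatorElement_def]
  group

theorem commElt_mul_right (x y z : Y) : ⁅x, y * z⁆ = ⁅x, y⁆ * (y * ⁅x, z⁆ * y⁻¹) := by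
  simp only [commutatorElement_def]
  group

/-- generators that commute with an involution, commute with each other modulo the involution and
have squares trivial modulo the involution: so for all elements of the subgroup generated. -/
theorem comm_sq_of_gens (ht : t * t = 1) (gens : Set Y)
    (hc : ∀ s ∈ gens, s * t = t * s)
    (hcomm : ∀ s ∈ gens, ∀ s' ∈ gens, ⁅s, s'⁆ = 1 ∨ ⁅s, s'⁆ = t)
    (hsq : ∀ s ∈ gens, s * s = 1 ∨ s * s = t) :
    (∀ x ∈ Subgroup.closure gens, x * t = t * x) ∧
      (∀ x ∈ Subgroup.closure gens, ∀ y ∈ Subgroup.closure gens, ⁅x, y⁆ = 1 ∨ ⁅x, y⁆ = t) ∧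
      (∀ x ∈ Subgroup.closure gens, x * x = 1 ∨ x * x = t) := by
  have hcen : ∀ x ∈ Subgroup.closure gens, x * t = t * x := by
    intro x hx
    induction hx using Subgroup.closure_induction with
    | mem s hs => exact hc s hs
    | one => rw [one_mul, mul_one]
    | mul a b _ _ iha ihb => rw [mul_assoc, ihb, ← mul_assoc, iha, mul_assoc]
    | inv a _ iha =>
      have : a⁻¹ * t = a⁻¹ * (t * a) * a⁻¹ := by group
      rw [this, ← iha]
      group
  have hz : ∀ z ∈ pairSub t ht, ∀ x ∈ Subgroup.closure gens, x * z = z * x := by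
    rintro z (rfl | rfl) x hx
    · rw [one_mul, mul_one]
    · exact hcen x hx
  have hconj : ∀ z ∈ pairSub t ht, ∀ x ∈ Subgroup.closure gens, x * z * x⁻¹ = z := by
    intro z hzz x hx
    rw [hz z hzz x hx, mul_inv_cancel_right]
  have hcm : ∀ x ∈ Subgroup.closure gens, ∀ y ∈ Subgroup.closure gens,
      ⁅x, y⁆ ∈ pairSub t ht := by
    intro x hx y hy
    induction hx, hy using Subgroup.closure_induction₂ with
    | mem a b ha hb => exact hcomm a ha b hb
    | one_left a _ => rw [commutatorElement_one_left]; exact Subgroup.one_mem _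
    | one_right a _ => rw [commutatorElement_one_right]; exact Subgroup.one_mem _
    | mul_left a b c ha hb hc' iha ihb =>
      rw [commElt_mul_left, hconj _ ihb a ha]
      exact Subgroup.mul_mem _ ihb iha
    | mul_right a b c ha hb hc' iha ihb =>
      rw [commElt_mul_right, hconj _ ihb a ha]
      exact Subgroup.mul_mem _ iha ihb
    | inv_left a b ha hb ih =>
      have e : ⁅a⁻¹, b⁆ = a⁻¹ * ⁅a, b⁆⁻¹ * a⁻¹⁻¹ := by
        simp only [commutatorElement_def]
        group
      rw [e, hconj _ (Subgroup.inv_mem _ ih) a⁻¹ (Subgroup.inv_mem _ ha)]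
      exact Subgroup.inv_mem _ ih
    | inv_right a b ha hb ih =>
      have e : ⁅a, b⁻¹⁆ = b⁻¹ * ⁅a, b⁆⁻¹ * b⁻¹⁻¹ := by
        simp only [commutatorElement_def]
        group
      rw [e, hconj _ (Subgroup.inv_mem _ ih) b⁻¹ (Subgroup.inv_mem _ hb)]
      exact Subgroup.inv_mem _ ih
  refine ⟨hcen, hcm, ?_⟩
  have hs : ∀ x ∈ Subgroup.closure gens, x * x ∈ pairSub t ht := by
    intro x hx
    induction hx using Subgroup.closure_induction with
    | mem s hs => exact hsq s hs
    | one => rw [one_mul]; exact Subgroup.one_mem _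
    | mul a b ha hb iha ihb =>
      have e : a * b * (a * b) = a * (⁅b, a⁆ * (a * b)) * b := by
        simp only [commutatorElement_def]
        group
      have hba := hcm b hb a ha
      rw [e, ← mul_assoc, hz _ hba a ha, mul_assoc, mul_assoc, mul_assoc, ← mul_assoc a a]
      exact Subgroup.mul_mem _ hba (Subgroup.mul_mem _ iha ihb)
    | inv a _ iha =>
      rw [← mul_inv_rev]
      exact Subgroup.inv_mem _ iha
  exact hs

end central

section desc

variable {α β : Type*} (f : α → β)

/-- the permutations that respect a map. -/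
def descSub : Subgroup (Equiv.Perm α) where
  carrier := {c | ∃ π : Equiv.Perm β, ∀ x, f (c x) = π (f x)}
  mul_mem' := by
    rintro c c' ⟨π, h⟩ ⟨π', h'⟩
    refine ⟨π * π', fun x => ?_⟩
    rw [Equiv.Perm.mul_apply, Equiv.Perm.mul_apply, h, h']
  one_mem' := ⟨1, fun _ => rfl⟩
  inv_mem' := by
    rintro c ⟨π, h⟩
    refine ⟨π⁻¹, fun x => ?_⟩
    apply π.injective
    rw [← h, Equiv.Perm.inv_def, Equiv.Perm.inv_def, Equiv.apply_symm_apply,
      Equiv.apply_symm_apply]

theorem mem_descSub (c : Equiv.Perm α) :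
    c ∈ descSub f ↔ ∃ π : Equiv.Perm β, ∀ x, f (c x) = π (f x) := Iff.rfl

variable (hf : Function.Surjective f)

include hf in
theorem desc_unique {c : Equiv.Perm α} {π π' : Equiv.Perm β} (h : ∀ x, f (c x) = π (f x))
    (h' : ∀ x, f (c x) = π' (f x)) : π = π' := by
  ext y
  obtain ⟨x, rfl⟩ := hf y
  rw [← h, ← h']

/-- the permutation of the values. -/
noncomputable def descHom : ↥(descSub f) →* Equiv.Perm β where
  toFun c := Classical.choose c.2
  map_one' := by
    apply desc_unique f hf (c := 1) (Classical.choose_spec (1 : ↥(descSub f)).2)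
    intro x
    rfl
  map_mul' c c' := by
    apply desc_unique f hf (c := (c * c' : ↥(descSub f)).1) (Classical.choose_spec (c * c').2)
    intro x
    have h := Classical.choose_spec c.2
    have h' := Classical.choose_spec c'.2
    rw [Subgroup.coe_mul, Equiv.Perm.mul_apply, Equiv.Perm.mul_apply, h, h']

theorem descHom_spec (c : ↥(descSub f)) (x : α) : f (c.1 x) = descHom f hf c (f x) :=
  Classical.choose_spec c.2 x

theorem descHom_eq {c : ↥(descSub f)} {π : Equiv.Perm β} (h : ∀ x, f (c.1 x) = π (f x)) :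
    descHom f hf c = π :=
  desc_unique f hf (descHom_spec f hf c) h

end desc

/-- a normal 2-subgroup of a group of permutations of an even number of points that fixes a point
and is transitive on the other points is trivial. -/
theorem eq_bot_of_normal_two_group {n : ℕ} (S N : Subgroup (Equiv.Perm (Fin n)))
    (hnorm : ∀ s ∈ S, ∀ g ∈ N, s * g * s⁻¹ ∈ N) (hN : IsPGroup 2 N) (heven : Even n)
    (ω0 : Fin n) (hfix : ∀ g ∈ N, g ω0 = ω0)
    (htr : ∀ x y, x ≠ ω0 → y ≠ ω0 → ∃ s ∈ S, s x = y) : N = ⊥ := by
  classical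
  have h1 := hN.card_modEq_card_fixedPoints (Fin n)
  have hω : ω0 ∈ MulAction.fixedPoints N (Fin n) := fun g => hfix g.1 g.2
  have : Fintype ↥(MulAction.fixedPoints N (Fin n)) := Fintype.ofFinite _
  have h2 : 2 ≤ Nat.card ↥(MulAction.fixedPoints N (Fin n)) := by
    have hpos : 0 < Nat.card ↥(MulAction.fixedPoints N (Fin n)) :=
      Nat.card_pos_iff.2 ⟨⟨⟨ω0, hω⟩⟩, inferInstance⟩
    have hev : Nat.card ↥(MulAction.fixedPoints N (Fin n)) % 2 = 0 := by
      have h3 : Nat.card (Fin n) % 2 = 0 := by
        rw [Nat.card_eq_fintype_card, Fintype.card_fin]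
        exact Nat.even_iff.1 heven
      have h4 : Nat.card (Fin n) % 2 = Nat.card ↥(MulAction.fixedPoints N (Fin n)) % 2 := h1
      omega
    omega
  have h3 : ∃ x ∈ MulAction.fixedPoints N (Fin n), x ≠ ω0 := by
    by_contra hc
    push Not at hc
    have : Subsingleton ↥(MulAction.fixedPoints N (Fin n)) :=
      ⟨fun a b => Subtype.ext ((hc a.1 a.2).trans (hc b.1 b.2).symm)⟩
    have := Finite.card_le_one_iff_subsingleton.2 this
    omega
  obtain ⟨x, hx, hx0⟩ := h3
  rw [Subgroup.eq_bot_iff_forall]
  intro g hg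
  apply Equiv.ext
  intro y
  rw [Equiv.Perm.one_apply]
  by_cases hy : y = ω0
  · rw [hy]
    exact hfix g hg
  · obtain ⟨s, hs, rfl⟩ := htr x y hx0 hy
    have h4 := hnorm s⁻¹ (Subgroup.inv_mem _ hs) g hg
    rw [inv_inv] at h4
    have h5 : (s⁻¹ * g * s) x = x := hx ⟨_, h4⟩
    have : g (s x) = s ((s⁻¹ * g * s) x) := by
      rw [Equiv.Perm.mul_apply, Equiv.Perm.mul_apply, Equiv.Perm.inv_def, Equiv.apply_symm_apply]
    rw [this, h5]

/-- the structure of a group from a normal extraspecial subgroup that is the kernel of a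
homomorphism onto a group without normal 2-subgroups. -/
theorem goodC_of_data {C S : Type*} [Group C] [Finite C] [Group S] (t : C) (Q : Subgroup C)
    (hQn : Q.Normal) (hcard : Nat.card Q = 2 ^ 9) (tQ : t ∈ Q) (t1 : t ≠ 1)
    (comm : ∀ x ∈ Q, ∀ y ∈ Q, x * y * x⁻¹ * y⁻¹ = 1 ∨ x * y * x⁻¹ * y⁻¹ = t)
    (sq : ∀ x ∈ Q, x * x = 1 ∨ x * x = t)
    (center : ∀ x ∈ Q, (∀ y ∈ Q, x * y = y * x) → x = 1 ∨ x = t)
    (tc : ∀ y ∈ Q, y * t = t * y)
    (σ : C →* S) (hσ : Function.Surjective σ) (hker : σ.ker = Q)
    (hS : ∀ N : Subgroup S, N.Normal → IsPGroup 2 N → N = ⊥)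
    (iso : S ≃* Matrix.symplecticGroup (Fin 3) (ZMod 2)) : GoodC C := by
  have : Fact (Nat.Prime 2) := ⟨Nat.prime_two⟩
  have hQ2 : IsPGroup 2 Q := IsPGroup.of_card hcard
  have hp : pCore 2 C = Q := by
    apply le_antisymm
    · have h1 : ((pCore 2 C).map σ).Normal := (pCore_normal (p := 2)).map σ hσ
      have h2 : IsPGroup 2 ((pCore 2 C).map σ) := (pCore_isPGroup (p := 2)).map σ
      have h3 := hS _ h1 h2
      intro x hx
      rw [← hker, MonoidHom.mem_ker]
      have : σ x ∈ (pCore 2 C).map σ := Subgroup.mem_map_of_mem σ hx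
      rw [h3] at this
      exact Subgroup.mem_bot.1 this
    · exact le_pCore Q hQn hQ2
  refine ⟨?_, ?_, ?_⟩
  · rw [hp]
    exact Cfsg.Agent.Helper9.J3Z.extraspecial_of Q t tQ t1 (by rw [hcard]; norm_num) comm sq center tc
  · rw [hp, hcard]
  · have e1 : C ⧸ pCore 2 C ≃* C ⧸ σ.ker :=
      QuotientGroup.quotientMulEquivOfEq (hp.trans hker.symm)
    exact ⟨e1.trans ((QuotientGroup.quotientKerEquivOfSurjective σ hσ).trans iso)⟩

end Cfsg.Agent.Helper9.Co2C
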