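import Mathlib
import Cfsg.Agent.Helper9.Co2C.Data
import Cfsg.Agent.Helper9.Co2O.Data

set_option autoImplicit false

/-! Kernel checks of the certificates, a part. -/

noncomputable section

namespace Cfsg.Agent.Helper9.Co2C

open Cfsg.Agent.Helper9.OutG Cfsg.Agent.Helper9.J3 Cfsg.Agent.Helper9.Co2O

set_option maxRecDepth 1000000 in
theorem tab_c_0 : allC (tabChk cD) 0 1 = true := by decide +kernel

set_option maxRecDepth 1000000 in
theorem tab_c_1 : allC (tabChk cD) 1 1 = true := by decide +kernel

set_option maxRecDepth 1000000 in
theorem tab_c_2 : allC (tabChk cD) 2 1 = true := by decide +kernel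

set_option maxRecDepth 1000000 in
theorem tab_c_3 : allC (tabChk cD) 3 1 = true := by decide +kernel

set_option maxRecDepth 1000000 in
theorem tab_c_4 : allC (tabChk cD) 4 1 = true := by decide +kernel

set_option maxRecDepth 1000000 in
theorem tab_c_5 : allC (tabChk cD) 5 1 = true := by decide +kernel

set_option maxRecDepth 1000000 in
theorem tab_c_6 : allC (tabChk cD) 6 1 = true := by decide +kernel

set_option maxRecDepth 1000000 in
theorem tab_c_7 : allC (tabChk cD) 7 1 = true := by decide +kernel

set_option maxRecDepth 1000000 in
theorem tab_c_8 : allC (tabChk cD) 8 1 = true := by decide +kernel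

set_option maxRecDepth 1000000 in
theorem tab_c_9 : allC (tabChk cD) 9 1 = true := by decide +kernel

set_option maxRecDepth 1000000 in
theorem tab_c_10 : allC (tabChk cD) 10 1 = true := by decide +kernel

set_option maxRecDepth 1000000 in
theorem tab_c_11 : allC (tabChk cD) 11 1 = true := by decide +kernel

set_option maxRecDepth 1000000 in
theorem tab_c_12 : allC (tabChk cD) 12 1 = true := by decide +kernel

end Cfsg.Agent.Helper9.Co2C

end
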