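import Mathlib
import Cfsg.Agent.Helper9.Co2C.Data
import Cfsg.Agent.Helper9.Co2O.Data

set_option autoImplicit false

/-! Kernel checks of the certificates, a part. -/

noncomputable section

namespace Cfsg.Agent.Helper9.Co2C

open Cfsg.Agent.Helper9.OutG Cfsg.Agent.Helper9.J3 Cfsg.Agent.Helper9.Co2O

set_option maxRecDepth 1000000 in
theorem tab_c_26 : allC (tabChk cD) 26 1 = true := by decide +kernel

set_option maxRecDepth 1000000 in
theorem tab_c_27 : allC (tabChk cD) 27 1 = true := by decide +kernel

set_option maxRecDepth 1000000 in
theorem tab_c_28 : allC (tabChk cD) 28 1 = true := by decide +kernel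

set_option maxRecDepth 1000000 in
theorem tab_c_29 : allC (tabChk cD) 29 1 = true := by decide +kernel

set_option maxRecDepth 1000000 in
theorem tab_c_30 : allC (tabChk cD) 30 1 = true := by decide +kernel

set_option maxRecDepth 1000000 in
theorem tab_c_31 : allC (tabChk cD) 31 1 = true := by decide +kernel

set_option maxRecDepth 1000000 in
theorem tab_c_32 : allC (tabChk cD) 32 1 = true := by decide +kernel

set_option maxRecDepth 1000000 in
theorem tab_c_33 : allC (tabChk cD) 33 1 = true := by decide +kernel

set_option maxRecDepth 1000000 in
theorem tab_c_34 : allC (tabChk cD) 34 1 = true := by decide +kernel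

set_option maxRecDepth 1000000 in
theorem tab_c_35 : allC (tabChk cD) 35 1 = true := by decide +kernel

set_option maxRecDepth 1000000 in
theorem tab_c_36 : allC (tabChk cD) 36 1 = true := by decide +kernel

set_option maxRecDepth 1000000 in
theorem tab_c_37 : allC (tabChk cD) 37 1 = true := by decide +kernel

set_option maxRecDepth 1000000 in
theorem tab_c_38 : allC (tabChk cD) 38 1 = true := by decide +kernel

end Cfsg.Agent.Helper9.Co2C

end
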