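import Mathlib
import Cfsg.Agent.Helper9.Co2C.Data
import Cfsg.Agent.Helper9.Co2O.Data

set_option autoImplicit false

/-! Kernel checks of the certificates, a part. -/

noncomputable section

namespace Cfsg.Agent.Helper9.Co2C

open Cfsg.Agent.Helper9.OutG Cfsg.Agent.Helper9.J3 Cfsg.Agent.Helper9.Co2O

set_option maxRecDepth 1000000 in
theorem tab_c_39 : allC (tabChk cD) 39 1 = true := by decide +kernel

set_option maxRecDepth 1000000 in
theorem tab_c_40 : allC (tabChk cD) 40 1 = true := by decide +kernel

set_option maxRecDepth 1000000 in
theorem tab_c_41 : allC (tabChk cD) 41 1 = true := by decide +kernel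

set_option maxRecDepth 1000000 in
theorem tab_c_42 : allC (tabChk cD) 42 1 = true := by decide +kernel

set_option maxRecDepth 1000000 in
theorem tab_c_43 : allC (tabChk cD) 43 1 = true := by decide +kernel

set_option maxRecDepth 1000000 in
theorem tab_c_44 : allC (tabChk cD) 44 1 = true := by decide +kernel

set_option maxRecDepth 1000000 in
theorem tab_c_45 : allC (tabChk cD) 45 1 = true := by decide +kernel

set_option maxRecDepth 1000000 in
theorem tab_c_46 : allC (tabChk cD) 46 1 = true := by decide +kernel

set_option maxRecDepth 1000000 in
theorem tab_c_47 : allC (tabChk cD) 47 1 = true := by decide +kernel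

set_option maxRecDepth 1000000 in
theorem tab_c_48 : allC (tabChk cD) 48 1 = true := by decide +kernel

end Cfsg.Agent.Helper9.Co2C

end
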