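import Mathlib
import Cfsg.Agent.Helper9.Co2C.Data
import Cfsg.Agent.Helper9.Co2O.Data

set_option autoImplicit false

/-! Kernel checks of the certificates, a part. -/

noncomputable section

namespace Cfsg.Agent.Helper9.Co2C

open Cfsg.Agent.Helper9.OutG Cfsg.Agent.Helper9.J3 Cfsg.Agent.Helper9.Co2O

set_option maxRecDepth 1000000 in
theorem c_hcomm : allL (fun k => commChk cD k cE.kt) cF.cgL = true := by decide +kernel

end Cfsg.Agent.Helper9.Co2C

end
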