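import Mathlib
import Cfsg.Agent.Helper9.Co2C.Data
import Cfsg.Agent.Helper9.Co2O.Data

set_option autoImplicit false

/-! Kernel checks of the certificates, a part. -/

noncomputable section

namespace Cfsg.Agent.Helper9.Co2C

open Cfsg.Agent.Helper9.OutG Cfsg.Agent.Helper9.J3 Cfsg.Agent.Helper9.Co2O

set_option maxRecDepth 1000000 in
theorem dw_c_13 : allC (dwChk cD) 13 1 = true := by decide +kernel

set_option maxRecDepth 1000000 in
theorem dw_c_14 : allC (dwChk cD) 14 1 = true := by decide +kernel

set_option maxRecDepth 1000000 in
theorem dw_c_15 : allC (dwChk cD) 15 1 = true := by decide +kernel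

set_option maxRecDepth 1000000 in
theorem dw_c_16 : allC (dwChk cD) 16 1 = true := by decide +kernel

set_option maxRecDepth 1000000 in
theorem dw_c_17 : allC (dwChk cD) 17 1 = true := by decide +kernel

set_option maxRecDepth 1000000 in
theorem dw_c_18 : allC (dwChk cD) 18 1 = true := by decide +kernel

set_option maxRecDepth 1000000 in
theorem dw_c_19 : allC (dwChk cD) 19 1 = true := by decide +kernel

set_option maxRecDepth 1000000 in
theorem dw_c_20 : allC (dwChk cD) 20 1 = true := by decide +kernel

set_option maxRecDepth 1000000 in
theorem dw_c_21 : allC (dwChk cD) 21 1 = true := by decide +kernel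

set_option maxRecDepth 1000000 in
theorem dw_c_22 : allC (dwChk cD) 22 1 = true := by decide +kernel

set_option maxRecDepth 1000000 in
theorem dw_c_23 : allC (dwChk cD) 23 1 = true := by decide +kernel

set_option maxRecDepth 1000000 in
theorem dw_c_24 : allC (dwChk cD) 24 1 = true := by decide +kernel

set_option maxRecDepth 1000000 in
theorem dw_c_25 : allC (dwChk cD) 25 1 = true := by decide +kernel

end Cfsg.Agent.Helper9.Co2C

end
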