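import Mathlib
import Cfsg.Agent.Helper9.Co2C.Data
import Cfsg.Agent.Helper9.Co2O.Data

set_option autoImplicit false

/-! Kernel checks of the certificates, a part. -/

noncomputable section

namespace Cfsg.Agent.Helper9.Co2C

open Cfsg.Agent.Helper9.OutG Cfsg.Agent.Helper9.J3 Cfsg.Agent.Helper9.Co2O

set_option maxRecDepth 1000000 in
theorem c_hblk_0 : allC (blkChk cD eD cF) 0 5 = true := by decide +kernel

set_option maxRecDepth 1000000 in
theorem c_hblk_1 : allC (blkChk cD eD cF) 1 5 = true := by decide +kernel

set_option maxRecDepth 1000000 in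
theorem c_hblk_2 : allC (blkChk cD eD cF) 2 5 = true := by decide +kernel

set_option maxRecDepth 1000000 in
theorem c_hblk_3 : allC (blkChk cD eD cF) 3 5 = true := by decide +kernel

set_option maxRecDepth 1000000 in
theorem c_hblk_4 : allC (blkChk cD eD cF) 4 5 = true := by decide +kernel

end Cfsg.Agent.Helper9.Co2C

end
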