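import Mathlib
import Cfsg.Agent.Helper9.Co2C.Data
import Cfsg.Agent.Helper9.Co2O.Data

set_option autoImplicit false

/-! Kernel checks of the certificates, a part. -/

noncomputable section

namespace Cfsg.Agent.Helper9.Co2C

open Cfsg.Agent.Helper9.OutG Cfsg.Agent.Helper9.J3 Cfsg.Agent.Helper9.Co2O

set_option maxRecDepth 1000000 in
theorem q_hmul_0 : allC (qmulChk cD cE dC.bs) 0 512 = true := by decide +kernel

set_option maxRecDepth 1000000 in
theorem q_hmul_1 : allC (qmulChk cD cE dC.bs) 1 512 = true := by decide +kernel

set_option maxRecDepth 1000000 in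
theorem q_hmul_2 : allC (qmulChk cD cE dC.bs) 2 512 = true := by decide +kernel

set_option maxRecDepth 1000000 in
theorem q_hmul_3 : allC (qmulChk cD cE dC.bs) 3 512 = true := by decide +kernel

set_option maxRecDepth 1000000 in
theorem q_hmul_4 : allC (qmulChk cD cE dC.bs) 4 512 = true := by decide +kernel

set_option maxRecDepth 1000000 in
theorem q_hmul_5 : allC (qmulChk cD cE dC.bs) 5 512 = true := by decide +kernel

set_option maxRecDepth 1000000 in
theorem q_hmul_6 : allC (qmulChk cD cE dC.bs) 6 512 = true := by decide +kernel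

set_option maxRecDepth 1000000 in
theorem q_hmul_7 : allC (qmulChk cD cE dC.bs) 7 512 = true := by decide +kernel

set_option maxRecDepth 1000000 in
theorem q_hmul_8 : allC (qmulChk cD cE dC.bs) 8 512 = true := by decide +kernel

end Cfsg.Agent.Helper9.Co2C

end
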