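import Mathlib
import Cfsg.Agent.Helper8.SpOrder

set_option autoImplicit false

/-! The symplectic group of degree six over the field with two elements as a group of permutations
of the 64 vectors, the vectors being numbered by their binary expansions. -/

noncomputable section

namespace Cfsg.Agent.Helper9.Co2C

/-- the index set of the coordinates. -/
abbrev I6 : Type := Fin 3 ⊕ Fin 3

/-- the vectors. -/
abbrev V6 : Type := I6 → ZMod 2

/-- the symplectic group. -/
abbrev Sp6 : Type := ↥(Matrix.symplecticGroup (Fin 3) (ZMod 2))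

/-- the position of a coordinate in the binary expansion. -/
def pos : I6 → ℕ
  | Sum.inl a => a.val
  | Sum.inr a => 3 + a.val

/-- the vector of a number. -/
def toV (i : ℕ) : V6 := fun k => if (i / 2 ^ pos k) % 2 = 1 then 1 else 0

theorem toV_inj : ∀ i j : Fin 64, toV i.val = toV j.val → i = j := by decide +kernel

theorem toV_bijective : Function.Bijective fun i : Fin 64 => toV i.val := by
  rw [Fintype.bijective_iff_injective_and_card]
  refine ⟨fun i j h => toV_inj i j h, ?_⟩
  rw [Fintype.card_fin, Fintype.card_fun, Fintype.card_sum, Fintype.card_fin, ZMod.card]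
  norm_num

/-- the numbering of the vectors. -/
def vecE : Fin 64 ≃ V6 := Equiv.ofBijective _ toV_bijective

theorem vecE_apply (i : Fin 64) : vecE i = toV i.val := rfl

/-- the action of the symplectic group on the vectors. -/
def spHom : Sp6 →* Equiv.Perm V6 where
  toFun M :=
    { toFun := fun v => Matrix.mulVec M.1 v
      invFun := fun v => Matrix.mulVec (M⁻¹ : Sp6).1 v
      left_inv := fun v => by
        change Matrix.mulVec (M⁻¹ : Sp6).1 (Matrix.mulVec M.1 v) = v
        rw [Matrix.mulVec_mulVec]
        have : (M⁻¹ : Sp6).1 * M.1 = 1 := congrArg Subtype.val (inv_mul_cancel M)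
        rw [this, Matrix.one_mulVec]
      right_inv := fun v => by
        change Matrix.mulVec M.1 (Matrix.mulVec (M⁻¹ : Sp6).1 v) = v
        rw [Matrix.mulVec_mulVec]
        have : M.1 * (M⁻¹ : Sp6).1 = 1 := congrArg Subtype.val (mul_inv_cancel M)
        rw [this, Matrix.one_mulVec] }
  map_one' := by
    apply Equiv.ext
    intro v
    exact Matrix.one_mulVec v
  map_mul' A B := by
    apply Equiv.ext
    intro v
    exact (Matrix.mulVec_mulVec v A.1 B.1).symm

theorem spHom_apply (M : Sp6) (v : V6) : spHom M v = Matrix.mulVec M.1 v := rfl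

/-- the action of the symplectic group on the numbers of the vectors. -/
def muHom : Sp6 →* Equiv.Perm (Fin 64) := vecE.symm.permCongrHom.toMonoidHom.comp spHom

theorem muHom_apply (M : Sp6) (j : Fin 64) : vecE (muHom M j) = Matrix.mulVec M.1 (vecE j) := by
  change vecE (vecE.symm (spHom M (vecE.symm.symm j))) = _
  rw [Equiv.apply_symm_apply, Equiv.symm_symm, spHom_apply]

theorem muHom_eq_of (M : Sp6) (f : ℕ → ℕ)
    (h : ∀ j : Fin 64, f j.val < 64 ∧ Matrix.mulVec M.1 (toV j.val) = toV (f j.val)) (j : Fin 64) :
    (muHom M j).val = f j.val := by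
  have h1 := muHom_apply M j
  rw [vecE_apply, vecE_apply, (h j).2] at h1
  have := toV_inj (muHom M j) ⟨f j.val, (h j).1⟩ h1
  rw [this]

theorem muHom_injective : Function.Injective muHom := by
  rw [injective_iff_map_eq_one]
  intro M hM
  apply Subtype.ext
  change M.1 = 1
  apply Matrix.toLin'.injective
  apply LinearMap.ext
  intro v
  rw [Matrix.toLin'_apply, Matrix.toLin'_one, LinearMap.id_apply]
  obtain ⟨j, rfl⟩ := vecE.surjective v
  rw [← muHom_apply, hM, Equiv.Perm.one_apply]

theorem card_Sp6 : Nat.card Sp6 = 1451520 := by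
  have h := Cfsg.Agent.Helper8.SpOrder.card_symp (F := ZMod 2) 3
  rw [ZMod.card] at h
  rw [h]
  decide

/-- the matrix with given binary expansions of the columns. -/
def matOf (cols : ℕ → ℕ) : Matrix I6 I6 (ZMod 2) :=
  fun r c => if (cols (pos c) / 2 ^ pos r) % 2 = 1 then 1 else 0

/-- a group of permutations of the numbers of the vectors that is generated by images of elements
of the symplectic group and has at least its order is isomorphic to it. -/
theorem iso_of_gens (S : Subgroup (Equiv.Perm (Fin 64))) (gens : Set (Equiv.Perm (Fin 64)))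
    (hS : S = Subgroup.closure gens) (hg : ∀ g ∈ gens, ∃ M : Sp6, muHom M = g)
    (hcard : 1451520 ≤ Nat.card S) : Nonempty (↥S ≃* Sp6) := by
  have hle : S ≤ muHom.range := by
    rw [hS, Subgroup.closure_le]
    intro g hg'
    obtain ⟨M, rfl⟩ := hg g hg'
    exact ⟨M, rfl⟩
  have e : Sp6 ≃* ↥muHom.range := MonoidHom.ofInjective muHom_injective
  have hc : Nat.card ↥muHom.range = 1451520 := by
    rw [← card_Sp6]
    exact Nat.card_congr e.toEquiv.symm
  have heq : S = muHom.range := by
    apply Subgroup.eq_of_le_of_card_ge hle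
    rw [hc]
    exact hcard
  exact ⟨(MulEquiv.subgroupCongr heq).trans e.symm⟩

end Cfsg.Agent.Helper9.Co2C

end
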