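import Mathlib
import Cfsg.Agent.Helper9.Co2C.Data
import Cfsg.Agent.Helper9.Co2O.Data
import Cfsg.Agent.Helper9.Co2C.Sp
import Cfsg.Agent.Helper9.Co2C.ChkA0
import Cfsg.Agent.Helper9.Co2C.ChkA1
import Cfsg.Agent.Helper9.Co2C.ChkA2
import Cfsg.Agent.Helper9.Co2C.ChkA3
import Cfsg.Agent.Helper9.Co2C.ChkD0
import Cfsg.Agent.Helper9.Co2C.ChkD1
import Cfsg.Agent.Helper9.Co2C.ChkD2
import Cfsg.Agent.Helper9.Co2C.ChkD3
import Cfsg.Agent.Helper9.Co2C.ChkM0
import Cfsg.Agent.Helper9.Co2C.ChkB0
import Cfsg.Agent.Helper9.Co2C.ChkK0
set_option autoImplicit false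

/-! Kernel checks of the certificates. -/

noncomputable section

namespace Cfsg.Agent.Helper9.Co2C

open Cfsg.Agent.Helper9.OutG Cfsg.Agent.Helper9.J3 Cfsg.Agent.Helper9.Co2O

theorem tab_c : allB (tabChk cD) cD.K = true := by
  have key : ∀ i, i < 49 → allC (tabChk cD) i 1 = true := by
    intro i hi
    interval_cases i
    · exact tab_c_0
    · exact tab_c_1
    · exact tab_c_2
    · exact tab_c_3
    · exact tab_c_4
    · exact tab_c_5
    · exact tab_c_6
    · exact tab_c_7
    · exact tab_c_8
    · exact tab_c_9
    · exact tab_c_10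
    · exact tab_c_11
    · exact tab_c_12
    · exact tab_c_13
    · exact tab_c_14
    · exact tab_c_15
    · exact tab_c_16
    · exact tab_c_17
    · exact tab_c_18
    · exact tab_c_19
    · exact tab_c_20
    · exact tab_c_21
    · exact tab_c_22
    · exact tab_c_23
    · exact tab_c_24
    · exact tab_c_25
    · exact tab_c_26
    · exact tab_c_27
    · exact tab_c_28
    · exact tab_c_29
    · exact tab_c_30
    · exact tab_c_31
    · exact tab_c_32
    · exact tab_c_33
    · exact tab_c_34
    · exact tab_c_35
    · exact tab_c_36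
    · exact tab_c_37
    · exact tab_c_38
    · exact tab_c_39
    · exact tab_c_40
    · exact tab_c_41
    · exact tab_c_42
    · exact tab_c_43
    · exact tab_c_44
    · exact tab_c_45
    · exact tab_c_46
    · exact tab_c_47
    · exact tab_c_48
  apply allB_of_forall
  intro v hv
  have h2 : cD.K = 49 * 1 := by decide
  have hv' : v < 49 * 1 := by rw [← h2]; exact hv
  exact allC_true (p := tabChk cD) (K := 49) (c := 1) key hv'

theorem dw_c : allB (dwChk cD) cD.K = true := by
  have key : ∀ i, i < 49 → allC (dwChk cD) i 1 = true := by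
    intro i hi
    interval_cases i
    · exact dw_c_0
    · exact dw_c_1
    · exact dw_c_2
    · exact dw_c_3
    · exact dw_c_4
    · exact dw_c_5
    · exact dw_c_6
    · exact dw_c_7
    · exact dw_c_8
    · exact dw_c_9
    · exact dw_c_10
    · exact dw_c_11
    · exact dw_c_12
    · exact dw_c_13
    · exact dw_c_14
    · exact dw_c_15
    · exact dw_c_16
    · exact dw_c_17
    · exact dw_c_18
    · exact dw_c_19
    · exact dw_c_20
    · exact dw_c_21
    · exact dw_c_22
    · exact dw_c_23
    · exact dw_c_24
    · exact dw_c_25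
    · exact dw_c_26
    · exact dw_c_27
    · exact dw_c_28
    · exact dw_c_29
    · exact dw_c_30
    · exact dw_c_31
    · exact dw_c_32
    · exact dw_c_33
    · exact dw_c_34
    · exact dw_c_35
    · exact dw_c_36
    · exact dw_c_37
    · exact dw_c_38
    · exact dw_c_39
    · exact dw_c_40
    · exact dw_c_41
    · exact dw_c_42
    · exact dw_c_43
    · exact dw_c_44
    · exact dw_c_45
    · exact dw_c_46
    · exact dw_c_47
    · exact dw_c_48
  apply allB_of_forall
  intro v hv
  have h2 : cD.K = 49 * 1 := by decide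
  have hv' : v < 49 * 1 := by rw [← h2]; exact hv
  exact allC_true (p := dwChk cD) (K := 49) (c := 1) key hv'

theorem cTab : tabOK cD := fun _ hk => allB_true tab_c hk

theorem cDwOK : dwOK cD := fun _ hk => allB_true dw_c hk

set_option maxRecDepth 1000000 in
theorem let_c : allB (fun l => allB (fun x => Nat.beq (T cD l x) (T dD l x)) 4600) 4 = true := by decide +kernel

set_option maxRecDepth 1000000 in
theorem tr_c : allB (trChk cD cTr 0 cD.n) cD.n = true := by decide +kernel

set_option maxRecDepth 1000000 in
theorem fix_c : Nat.beq (fixCnt cD cE.kt) 56 = true := by decide +kernel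

set_option maxRecDepth 1000000 in
theorem cj_c : cjChk cD cE.kt 0 dC.bs cCj 0 = true := by decide +kernel

set_option maxRecDepth 1000000 in
theorem cjlen : Nat.beq cCj.length 693 = true := by decide +kernel

theorem q_hmul : ∀ v, v < cE.qL.length * cE.m → qmulChk cD cE dC.bs v = true := by
  intro v hv
  have h2 : cE.qL.length * cE.m = 9 * 512 := by decide
  rw [h2] at hv
  refine allC_true (p := qmulChk cD cE dC.bs) (K := 9) (c := 512) ?_ hv
  intro i hi
  interval_cases i
  · exact q_hmul_0
  · exact q_hmul_1
  · exact q_hmul_2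
  · exact q_hmul_3
  · exact q_hmul_4
  · exact q_hmul_5
  · exact q_hmul_6
  · exact q_hmul_7
  · exact q_hmul_8

set_option maxRecDepth 1000000 in
theorem q_hrel_b : allB (qrelChk cD cE dC.bs) 81 = true := by decide +kernel

theorem q_hrel : ∀ v, v < cE.qL.length * cE.qL.length → qrelChk cD cE dC.bs v = true := by
  intro v hv
  have h2 : cE.qL.length * cE.qL.length = 81 := by decide
  rw [h2] at hv
  exact allB_true q_hrel_b hv

set_option maxRecDepth 1000000 in
theorem q_hsq_b : allB (qsqChk cD cE dC.bs) 9 = true := by decide +kernel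

theorem q_hsq : ∀ v, v < cE.qL.length → qsqChk cD cE dC.bs v = true := by
  intro v hv
  have h2 : cE.qL.length = 9 := by decide
  rw [h2] at hv
  exact allB_true q_hsq_b hv

set_option maxRecDepth 1000000 in
theorem q_hcen_b : allB (qcenChk cD cE) 512 = true := by decide +kernel

theorem q_hcen : ∀ v, v < cE.m → qcenChk cD cE v = true := by
  intro v hv
  have h2 : cE.m = 512 := by decide
  rw [h2] at hv
  exact allB_true q_hcen_b hv

set_option maxRecDepth 1000000 in
theorem q_hcom : allL (fun k => commChk cD k cE.kt) cE.qL = true := by decide +kernel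

set_option maxRecDepth 1000000 in
theorem q_hch : chainChk cD [cE.x0] [] [cE.qws] = true := by decide +kernel

set_option maxRecDepth 1000000 in
theorem q_hmw : memWss cE.qL [cE.qws] = true := by decide +kernel

set_option maxRecDepth 1000000 in
theorem q_hpl : Nat.beq cE.qws.length cE.m = true := by decide +kernel

set_option maxRecDepth 1000000 in
theorem q_hiv : Nat.beq (ivI cD cE.kt) cE.kt = true := by decide +kernel

set_option maxRecDepth 1000000 in
theorem q_hmv : Nat.beq (T cD cE.kt cE.x0) cE.x0 = false := by decide +kernel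

theorem qok : QOK cD cE dC.bs :=
  { hm := by decide, hm2 := by decide, hmul := q_hmul, hrel := q_hrel, hsq := q_hsq, hcen := q_hcen, hcom := q_hcom,
    hch := q_hch, hmw := q_hmw, hpl := Nat.eq_of_beq_eq_true q_hpl, h0 := by decide, hkt := by decide,
    hiv := Nat.eq_of_beq_eq_true q_hiv, hx0 := by decide, hmv := q_hmv }

set_option maxRecDepth 1000000 in
theorem c_hq : allL (fun k => memN k cF.cgL) cE.qL = true := by decide +kernel

set_option maxRecDepth 1000000 in
theorem c_hch : chainChk cD cF.cbs [] cF.cwss = true := by decide +kernel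

set_option maxRecDepth 1000000 in
theorem c_hmw : memWss cF.cgL cF.cwss = true := by decide +kernel

set_option maxRecDepth 1000000 in
theorem c_hpl : Nat.beq (prodLen cF.cwss) cF.NC = true := by decide +kernel

set_option maxRecDepth 1000000 in
theorem c_hnorm_b : allB (qnormChk cD cE cF dC.bs) 225 = true := by decide +kernel

theorem c_hnorm : ∀ v, v < cF.cgL.length * cE.qL.length → qnormChk cD cE cF dC.bs v = true := by
  intro v hv
  have h2 : cF.cgL.length * cE.qL.length = 225 := by decide
  rw [h2] at hv
  exact allB_true c_hnorm_b hv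

theorem c_hblk : ∀ v, v < cF.cgL.length → blkChk cD eD cF v = true := by
  intro v hv
  have h2 : cF.cgL.length = 5 * 5 := by decide
  rw [h2] at hv
  refine allC_true (p := blkChk cD eD cF) (K := 5) (c := 5) ?_ hv
  intro i hi
  interval_cases i
  · exact c_hblk_0
  · exact c_hblk_1
  · exact c_hblk_2
  · exact c_hblk_3
  · exact c_hblk_4

set_option maxRecDepth 1000000 in
theorem c_hqblk : allL (fun s => allB (fun x => Nat.beq (blkN cF (T cD s x)) (blkN cF x)) cD.n) cE.qL = true := by decide +kernel

set_option maxRecDepth 1000000 in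
theorem c_hrep : allB (fun v => andB (ltB (lkF 16 65535 cF.rep v) cD.n) (Nat.beq (blkN cF (lkF 16 65535 cF.rep v)) v)) eD.n = true := by decide +kernel

set_option maxRecDepth 1000000 in
theorem c_hlet : allB (fun l => andB (ltB (nthN cF.letC l) cF.cgL.length) (Nat.beq (lkF 8 255 cF.lam (nthN cF.letC l)) l)) eD.L = true := by decide +kernel

theorem cok : COK cD eD cE cF dC.bs :=
  { hcomm := c_hcomm, hq := c_hq, hch := c_hch, hmw := c_hmw, hpl := Nat.eq_of_beq_eq_true c_hpl, hnorm := c_hnorm,
    hblk := c_hblk, hqblk := c_hqblk, hrep := c_hrep, hlet := c_hlet, h64 := by decide }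

set_option maxRecDepth 1000000 in
theorem e_tab : allB (tabChk eD) eD.K = true := by decide +kernel

set_option maxRecDepth 1000000 in
theorem e_dw : allB (dwChk eD) eD.K = true := by decide +kernel

set_option maxRecDepth 1000000 in
theorem e_chain : chainChk eD eC.bs [] eC.wss = true := by decide +kernel

set_option maxRecDepth 1000000 in
theorem e_plen : prodLen eC.wss = 1451520 := by decide +kernel

/-- the verified core of the permutations of the blocks. -/
theorem eCore : Core eD eC 1451520 :=
  ⟨fun _ hk => allB_true e_tab hk, fun _ hk => allB_true e_dw hk, e_chain, e_plen⟩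

set_option maxRecDepth 1000000 in
theorem e_fix : allB (fun l => Nat.beq (T eD l 0) 0) eD.L = true := by decide +kernel

set_option maxRecDepth 1000000 in
theorem e_tr : allB (trChk eD eTr 1 0) eD.n = true := by decide +kernel

set_option maxRecDepth 1000000 in
theorem e_mem0 : matOf eCols0 ∈ Matrix.symplecticGroup (Fin 3) (ZMod 2) := by
  rw [SymplecticGroup.mem_iff]
  decide +kernel

set_option maxRecDepth 1000000 in
theorem e_act0 : ∀ j : Fin 64, T eD 0 j.val < 64 ∧
    Matrix.mulVec (matOf eCols0) (toV j.val) = toV (T eD 0 j.val) := by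
  decide +kernel

set_option maxRecDepth 1000000 in
theorem e_mem1 : matOf eCols1 ∈ Matrix.symplecticGroup (Fin 3) (ZMod 2) := by
  rw [SymplecticGroup.mem_iff]
  decide +kernel

set_option maxRecDepth 1000000 in
theorem e_act1 : ∀ j : Fin 64, T eD 1 j.val < 64 ∧
    Matrix.mulVec (matOf eCols1) (toV j.val) = toV (T eD 1 j.val) := by
  decide +kernel

set_option maxRecDepth 1000000 in
theorem e_mem2 : matOf eCols2 ∈ Matrix.symplecticGroup (Fin 3) (ZMod 2) := by
  rw [SymplecticGroup.mem_iff]
  decide +kernel

set_option maxRecDepth 1000000 in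
theorem e_act2 : ∀ j : Fin 64, T eD 2 j.val < 64 ∧
    Matrix.mulVec (matOf eCols2) (toV j.val) = toV (T eD 2 j.val) := by
  decide +kernel

set_option maxRecDepth 1000000 in
theorem e_mem3 : matOf eCols3 ∈ Matrix.symplecticGroup (Fin 3) (ZMod 2) := by
  rw [SymplecticGroup.mem_iff]
  decide +kernel

set_option maxRecDepth 1000000 in
theorem e_act3 : ∀ j : Fin 64, T eD 3 j.val < 64 ∧
    Matrix.mulVec (matOf eCols3) (toV j.val) = toV (T eD 3 j.val) := by
  decide +kernel

end Cfsg.Agent.Helper9.Co2C

end
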