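import Mathlib
import Cfsg.Agent.Helper9.Co2O.Data
import Cfsg.Agent.Helper9.Co2O.ChkA0
import Cfsg.Agent.Helper9.Co2O.ChkA1
import Cfsg.Agent.Helper9.Co2O.ChkA2
import Cfsg.Agent.Helper9.Co2O.ChkA3
import Cfsg.Agent.Helper9.Co2O.ChkD0
import Cfsg.Agent.Helper9.Co2O.ChkD1
import Cfsg.Agent.Helper9.Co2O.ChkD2
import Cfsg.Agent.Helper9.Co2O.ChkD3
import Cfsg.Agent.Helper9.Co2O.BrChk
import Cfsg.Agent.Helper9.LeechAct.Stab
import Cfsg.Agent.Helper9.Leech.Co2Simple

set_option autoImplicit false

/-! The stabilizer of the vector as the group of the tables, with a small closure of imports. -/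

noncomputable section

namespace Cfsg.Agent.Helper9.Co2C

open Cfsg Cfsg.Agent.Helper9.Golay Cfsg.Agent.Helper9.Leech Cfsg.Agent.Helper9.OutG
open Cfsg.Agent.Helper9.LeechAct Cfsg.Agent.Helper9.J3 Cfsg.Agent.Helper9.Co2O

theorem tab_b2 : allB (tabChk dD) dD.K = true := by
  have key : ∀ i, i < 100 → allC (tabChk dD) i 1 = true := by
    intro i hi
    interval_cases i
    · exact tab_b_0
    · exact tab_b_1
    · exact tab_b_2
    · exact tab_b_3
    · exact tab_b_4
    · exact tab_b_5
    · exact tab_b_6
    · exact tab_b_7
    · exact tab_b_8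
    · exact tab_b_9
    · exact tab_b_10
    · exact tab_b_11
    · exact tab_b_12
    · exact tab_b_13
    · exact tab_b_14
    · exact tab_b_15
    · exact tab_b_16
    · exact tab_b_17
    · exact tab_b_18
    · exact tab_b_19
    · exact tab_b_20
    · exact tab_b_21
    · exact tab_b_22
    · exact tab_b_23
    · exact tab_b_24
    · exact tab_b_25
    · exact tab_b_26
    · exact tab_b_27
    · exact tab_b_28
    · exact tab_b_29
    · exact tab_b_30
    · exact tab_b_31
    · exact tab_b_32
    · exact tab_b_33
    · exact tab_b_34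
    · exact tab_b_35
    · exact tab_b_36
    · exact tab_b_37
    · exact tab_b_38
    · exact tab_b_39
    · exact tab_b_40
    · exact tab_b_41
    · exact tab_b_42
    · exact tab_b_43
    · exact tab_b_44
    · exact tab_b_45
    · exact tab_b_46
    · exact tab_b_47
    · exact tab_b_48
    · exact tab_b_49
    · exact tab_b_50
    · exact tab_b_51
    · exact tab_b_52
    · exact tab_b_53
    · exact tab_b_54
    · exact tab_b_55
    · exact tab_b_56
    · exact tab_b_57
    · exact tab_b_58
    · exact tab_b_59
    · exact tab_b_60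
    · exact tab_b_61
    · exact tab_b_62
    · exact tab_b_63
    · exact tab_b_64
    · exact tab_b_65
    · exact tab_b_66
    · exact tab_b_67
    · exact tab_b_68
    · exact tab_b_69
    · exact tab_b_70
    · exact tab_b_71
    · exact tab_b_72
    · exact tab_b_73
    · exact tab_b_74
    · exact tab_b_75
    · exact tab_b_76
    · exact tab_b_77
    · exact tab_b_78
    · exact tab_b_79
    · exact tab_b_80
    · exact tab_b_81
    · exact tab_b_82
    · exact tab_b_83
    · exact tab_b_84
    · exact tab_b_85
    · exact tab_b_86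
    · exact tab_b_87
    · exact tab_b_88
    · exact tab_b_89
    · exact tab_b_90
    · exact tab_b_91
    · exact tab_b_92
    · exact tab_b_93
    · exact tab_b_94
    · exact tab_b_95
    · exact tab_b_96
    · exact tab_b_97
    · exact tab_b_98
    · exact tab_b_99
  apply allB_of_forall
  intro v hv
  have h2 : dD.K = 100 * 1 := by decide
  have hv' : v < 100 * 1 := by rw [← h2]; exact hv
  exact allC_true (p := tabChk dD) (K := 100) (c := 1) key hv'

theorem dw_b2 : allB (dwChk dD) dD.K = true := by
  have key : ∀ i, i < 100 → allC (dwChk dD) i 1 = true := by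
    intro i hi
    interval_cases i
    · exact dw_b_0
    · exact dw_b_1
    · exact dw_b_2
    · exact dw_b_3
    · exact dw_b_4
    · exact dw_b_5
    · exact dw_b_6
    · exact dw_b_7
    · exact dw_b_8
    · exact dw_b_9
    · exact dw_b_10
    · exact dw_b_11
    · exact dw_b_12
    · exact dw_b_13
    · exact dw_b_14
    · exact dw_b_15
    · exact dw_b_16
    · exact dw_b_17
    · exact dw_b_18
    · exact dw_b_19
    · exact dw_b_20
    · exact dw_b_21
    · exact dw_b_22
    · exact dw_b_23
    · exact dw_b_24
    · exact dw_b_25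
    · exact dw_b_26
    · exact dw_b_27
    · exact dw_b_28
    · exact dw_b_29
    · exact dw_b_30
    · exact dw_b_31
    · exact dw_b_32
    · exact dw_b_33
    · exact dw_b_34
    · exact dw_b_35
    · exact dw_b_36
    · exact dw_b_37
    · exact dw_b_38
    · exact dw_b_39
    · exact dw_b_40
    · exact dw_b_41
    · exact dw_b_42
    · exact dw_b_43
    · exact dw_b_44
    · exact dw_b_45
    · exact dw_b_46
    · exact dw_b_47
    · exact dw_b_48
    · exact dw_b_49
    · exact dw_b_50
    · exact dw_b_51
    · exact dw_b_52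
    · exact dw_b_53
    · exact dw_b_54
    · exact dw_b_55
    · exact dw_b_56
    · exact dw_b_57
    · exact dw_b_58
    · exact dw_b_59
    · exact dw_b_60
    · exact dw_b_61
    · exact dw_b_62
    · exact dw_b_63
    · exact dw_b_64
    · exact dw_b_65
    · exact dw_b_66
    · exact dw_b_67
    · exact dw_b_68
    · exact dw_b_69
    · exact dw_b_70
    · exact dw_b_71
    · exact dw_b_72
    · exact dw_b_73
    · exact dw_b_74
    · exact dw_b_75
    · exact dw_b_76
    · exact dw_b_77
    · exact dw_b_78
    · exact dw_b_79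
    · exact dw_b_80
    · exact dw_b_81
    · exact dw_b_82
    · exact dw_b_83
    · exact dw_b_84
    · exact dw_b_85
    · exact dw_b_86
    · exact dw_b_87
    · exact dw_b_88
    · exact dw_b_89
    · exact dw_b_90
    · exact dw_b_91
    · exact dw_b_92
    · exact dw_b_93
    · exact dw_b_94
    · exact dw_b_95
    · exact dw_b_96
    · exact dw_b_97
    · exact dw_b_98
    · exact dw_b_99
  apply allB_of_forall
  intro v hv
  have h2 : dD.K = 100 * 1 := by decide
  have hv' : v < 100 * 1 := by rw [← h2]; exact hv
  exact allC_true (p := dwChk dD) (K := 100) (c := 1) key hv'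

set_option maxRecDepth 1000000 in
theorem chain_b2 : chainChk dD dC.bs [] dC.wss = true := by decide +kernel

set_option maxRecDepth 1000000 in
theorem plen_b2 : prodLen dC.wss = 42305421312000 := by decide +kernel

/-- the verified core. -/
theorem core2 : Core dD dC 42305421312000 :=
  ⟨fun _ hk => allB_true tab_b2 hk, fun _ hk => allB_true dw_b2 hk, chain_b2, plen_b2⟩

theorem mem_Co2_iff (g : Equiv.Perm ↥leechLattice) :
    g ∈ Spor.Co2 ↔ g ∈ Co0 ∧ g Spor.leechU = Spor.leechU := by
  unfold Spor.Co2
  rw [Subgroup.mem_inf, MulAction.mem_stabilizer_iff]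
  rfl

theorem coeU : ((Spor.leechU : ↥leechLattice) : GolayPt → ℤ) = toVec (dFix.getD 0 []) := by
  funext p
  revert p
  decide

theorem normU : sqNorm ((Spor.leechU : ↥leechLattice) : GolayPt → ℤ) = 32 := by decide

theorem co2_fin : Finite ↥Spor.Co2 ∧ Nat.card ↥Spor.Co2 ≤ 42305421312000 :=
  finite_card_le (by norm_num) (co2_simple_card Spor.leechU normU).2
    (single_mem Spor.leechU (fun g hg => (mem_Co2_iff g).1 hg))

/-- the vector of the first point. -/
def rootV : GolayPt → ℤ := fun p => if p = none ∨ p = some 1 then 4 else 0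

theorem rootV_mem : rootV ∈ leechSet :=
  Spor.mem_leechSet_of_const_mod_four rootV 0 0 (by decide) (by decide) (by decide)

/-- the first point. -/
def rootL : ↥leechLattice := ⟨rootV, AddSubgroup.subset_closure rootV_mem⟩

/-- the second Conway group is the group of the tables. -/
theorem co2_iso : Nonempty (↥Spor.Co2 ≃* ↥(GS core2)) ∧ Nat.card ↥(GS core2) = 42305421312000 := by
  have := co2_fin.1
  have hx0 : ((rootL : ↥leechLattice) : GolayPt → ℤ) = toVec (dBr.pt dBr.rt) := by
    have e : dBr.pt dBr.rt = [0, 4, 0, 0, 0, 0, 0, 0, 0, 0, 0, 0, 0, 0, 0, 0, 0, 0, 0, 0, 0,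
      0, 0, 4] := by decide +kernel
    rw [e]
    funext p
    revert p
    decide
  exact bridgeL core2 brOK Spor.Co2 co2_fin.2
    [(Spor.leechU, dFix.getD 0 [])]
    (by
      intro f hf
      simp only [List.mem_cons, List.not_mem_nil, or_false] at hf
      rcases hf with rfl
      exact coeU)
    (by decide)
    (by
      intro g hg hfx
      rw [mem_Co2_iff]
      exact ⟨hg, hfx (Spor.leechU, dFix.getD 0 []) List.mem_cons_self⟩)
    rootL hx0

end Cfsg.Agent.Helper9.Co2C

end
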