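import Mathlib
import Cfsg.Agent.Helper9.OutG.Syl
import Cfsg.Agent.Helper9.HeC.Abs

set_option autoImplicit false

/-! Checks on permutations given by tables: commuting tables, a tree of the points that shows that
the group is transitive, the number of the fixed points of a table, conjugates of a table that fix
a point, and the bound for the order of the centralizer of a table. -/

noncomputable section

namespace Cfsg.Agent.Helper9.Co2C

open Cfsg.Agent.Helper9.OutG Cfsg.Agent.Helper9.J3 Cfsg.Agent.Helper9.PChain

/-- a check on the numbers of a list. -/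
def allL (p : ℕ → Bool) (l : List ℕ) : Bool := List.rec true (fun k _ ih => andB (p k) ih) l

theorem allL_true {p : ℕ → Bool} {l : List ℕ} (h : allL p l = true) : ∀ k ∈ l, p k = true := by
  induction l with
  | nil => intro k hk; exact absurd hk List.not_mem_nil
  | cons a l ih =>
    have h' : andB (p a) (allL p l) = true := h
    obtain ⟨h1, h2⟩ := andB_true h'
    intro k hk
    rcases List.mem_cons.1 hk with rfl | hk
    · exact h1
    · exact ih h2 k hk

variable (D : Dat)

/-- the check that two tables commute. -/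
def commChk (a b : ℕ) : Bool :=
  allB (fun x => Nat.beq (T D a (T D b x)) (T D b (T D a x))) D.n

section tab

variable (hD : tabOK D)

theorem commChk_true {a b : ℕ} (h : commChk D a b = true) :
    El D hD a * El D hD b = El D hD b * El D hD a := by
  apply perm_ext D
  intro x
  rw [Equiv.Perm.mul_apply, Equiv.Perm.mul_apply, El_apply, El_apply, El_apply, El_apply]
  exact Nat.eq_of_beq_eq_true (allB_true h x.isLt)

/-! ### the tree of the points -/

/-- the letter of the entry of a point in the tree. -/
def trLet (tr y : ℕ) : ℕ := Nat.land (lkF 32 4294967295 tr y) 255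

/-- the parent of a point in the tree. -/
def trPar (tr y : ℕ) : ℕ := Nat.land (Nat.shiftRight (lkF 32 4294967295 tr y) 8) 65535

/-- the depth of a point in the tree. -/
def trDep (tr y : ℕ) : ℕ := Nat.shiftRight (lkF 32 4294967295 tr y) 24

/-- the check of the entry of a point in the tree: the point is the root or the excluded point, or
the letter maps the parent, which is less deep and not the excluded point, to the point. -/
def trChk (tr r e y : ℕ) : Bool :=
  orB (Nat.beq y r) (orB (Nat.beq y e) (andB (ltB (trPar tr y) D.n)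
    (andB (ltB (trDep tr (trPar tr y)) (trDep tr y)) (andB (notB (Nat.beq (trPar tr y) e))
      (Nat.beq (T D (trLet tr y) (trPar tr y)) y)))))

theorem exists_of_tree (hP : dwOK D) (tr r e : ℕ) (hr : r < D.n)
    (h : allB (trChk D tr r e) D.n = true) (y : Fin D.n) (hy : y.val ≠ e) :
    ∃ g ∈ grp D hD, g ⟨r, hr⟩ = y := by
  have key : ∀ d : ℕ, ∀ y : Fin D.n, y.val ≠ e → trDep tr y.val = d →
      ∃ g ∈ grp D hD, g ⟨r, hr⟩ = y := by
    intro d
    induction d using Nat.strong_induction_on with
    | _ d ih =>
      intro y hye hy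
      rcases orB_true (allB_true h y.isLt) with h1 | h1
      · refine ⟨1, Subgroup.one_mem _, ?_⟩
        apply Fin.ext
        exact (Nat.eq_of_beq_eq_true h1).symm
      · rcases orB_true h1 with h1 | h1
        · exact absurd (Nat.eq_of_beq_eq_true h1) hye
        · obtain ⟨h2, h3⟩ := andB_true h1
          obtain ⟨h3, h4⟩ := andB_true h3
          obtain ⟨h4, h5⟩ := andB_true h4
          have hp : trPar tr y.val < D.n := ltB_true h2
          have hd : trDep tr (trPar tr y.val) < d := by rw [← hy]; exact ltB_true h3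
          have hpe : trPar tr y.val ≠ e := by
            intro he
            have := notB_true h4
            rw [he, Nat.beq_refl] at this
            exact Bool.noConfusion this
          obtain ⟨g, hg, hgr⟩ := ih _ hd ⟨trPar tr y.val, hp⟩ hpe rfl
          refine ⟨El D hD (trLet tr y.val) * g, Subgroup.mul_mem _ (El_mem D hD hP _) hg, ?_⟩
          rw [Equiv.Perm.mul_apply, hgr]
          apply Fin.ext
          rw [El_apply]
          exact Nat.eq_of_beq_eq_true h5
  exact key _ y hy rfl

theorem pretransitive_of_tree (hP : dwOK D) (tr r : ℕ) (hr : r < D.n)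
    (h : allB (trChk D tr r D.n) D.n = true) : MulAction.IsPretransitive ↥(grp D hD) (Fin D.n) := by
  constructor
  intro x y
  obtain ⟨g, hg, hgx⟩ := exists_of_tree D hD hP tr r D.n hr h x (Nat.ne_of_lt x.isLt)
  obtain ⟨k, hk, hky⟩ := exists_of_tree D hD hP tr r D.n hr h y (Nat.ne_of_lt y.isLt)
  refine ⟨⟨k * g⁻¹, Subgroup.mul_mem _ hk (Subgroup.inv_mem _ hg)⟩, ?_⟩
  change (k * g⁻¹) x = y
  rw [Equiv.Perm.mul_apply, ← hgx, Equiv.Perm.inv_def, Equiv.symm_apply_apply, hky]

/-! ### the fixed points -/

theorem sumF_range' (f : ℕ → ℕ) (m : ℕ) : sumF f m = ∑ x ∈ Finset.range m, f x := by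
  induction m with
  | zero => rfl
  | succ m ih => rw [sumF_succ, Finset.sum_range_succ, ih, add_comm]

theorem card_filter_fin' (p : ℕ → Bool) (n : ℕ) :
    (Finset.univ.filter fun q : Fin n => p q.val = true).card =
      sumF (fun x => Bool.rec 0 1 (p x)) n := by
  rw [Finset.card_filter, sumF_range',
    ← Fin.sum_univ_eq_sum_range (fun x => (Bool.rec 0 1 (p x) : ℕ)) n]
  apply Finset.sum_congr rfl
  intro q _
  cases p q.val <;> rfl

/-- the number of the fixed points of a table. -/
def fixCnt (k : ℕ) : ℕ := sumF (fun x => Bool.rec 0 1 (Nat.beq (T D k x) x)) D.n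

theorem card_fix (k : ℕ) :
    (Finset.univ.filter fun q : Fin D.n => El D hD k q = q).card = fixCnt D k := by
  have h := card_filter_fin' (fun x => Nat.beq (T D k x) x) D.n
  unfold fixCnt
  rw [← h]
  apply congrArg Finset.card
  apply Finset.filter_congr
  intro q _
  constructor
  · intro hq
    have h1 : T D k q.val = q.val := by rw [← El_apply D hD, hq]
    rw [h1]
    exact Nat.beq_refl _
  · intro hq
    apply Fin.ext
    rw [El_apply]
    exact Nat.eq_of_beq_eq_true hq

/-! ### conjugates -/

/-- the conjugate of a table by a word, as a function. -/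
def conjF (kt : ℕ) (w : List ℕ) (x : ℕ) : ℕ := evalT D w (T D kt (evalI D w x))

theorem conjF_comp (kt : ℕ) (w : List ℕ) (x : Fin D.n) :
    ((permW D hD w * El D hD kt * (permW D hD w)⁻¹) x).val = conjF D kt w x.val := by
  rw [Equiv.Perm.mul_apply, Equiv.Perm.mul_apply, permW_apply, El_apply]
  unfold conjF
  rw [← permW_invW D hD w, permW_apply, evalI_eq]

/-- the packed images of the points of a list under a function. -/
def sigF (bs : List ℕ) (f : ℕ → ℕ) : ℕ :=
  List.rec 0 (fun b _ ih => Nat.add (f b) (Nat.mul 65536 ih)) bs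

/-- the check of the conjugates: they fix the point, and their packed images increase. -/
def cjChk (kt p0 : ℕ) (bs : List ℕ) (ws : List (List ℕ)) (lo : ℕ) : Bool :=
  List.rec (motive := fun _ => ℕ → Bool) (fun _ => true)
    (fun w _ ih lo => andB (Nat.beq (conjF D kt w p0) p0)
      (sapp (fun s => andB (Nat.ble lo s) (ih (Nat.succ s))) (sigF bs (conjF D kt w)))) ws lo

theorem cjChk_cons (kt p0 : ℕ) (bs : List ℕ) (w : List ℕ) (ws : List (List ℕ)) (lo : ℕ) :
    cjChk D kt p0 bs (w :: ws) lo = andB (Nat.beq (conjF D kt w p0) p0)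
      (andB (Nat.ble lo (sigF bs (conjF D kt w)))
        (cjChk D kt p0 bs ws (Nat.succ (sigF bs (conjF D kt w))))) := by
  change andB _ (sapp _ (sigF bs (conjF D kt w))) = _
  rw [sapp_eq]
  rfl

theorem cjChk_sound {kt p0 : ℕ} {bs : List ℕ} {ws : List (List ℕ)} {lo : ℕ}
    (h : cjChk D kt p0 bs ws lo = true) :
    (∀ w ∈ ws, conjF D kt w p0 = p0) ∧ (∀ w ∈ ws, lo ≤ sigF bs (conjF D kt w)) ∧
      (ws.map fun w => sigF bs (conjF D kt w)).Nodup := by
  induction ws generalizing lo with
  | nil => exact ⟨fun w hw => absurd hw List.not_mem_nil, fun w hw => absurd hw List.not_mem_nil,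
      List.nodup_nil⟩
  | cons w ws ih =>
    rw [cjChk_cons] at h
    obtain ⟨h1, h2⟩ := andB_true h
    obtain ⟨h2, h3⟩ := andB_true h2
    obtain ⟨i1, i2, i3⟩ := ih h3
    refine ⟨?_, ?_, ?_⟩
    · intro v hv
      rcases List.mem_cons.1 hv with rfl | hv
      · exact Nat.eq_of_beq_eq_true h1
      · exact i1 v hv
    · intro v hv
      rcases List.mem_cons.1 hv with rfl | hv
      · exact Nat.le_of_ble_eq_true h2
      · exact le_trans (le_trans (Nat.le_of_ble_eq_true h2) (Nat.le_succ _)) (i2 v hv)
    · rw [List.map_cons, List.nodup_cons]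
      refine ⟨?_, i3⟩
      intro hm
      obtain ⟨v, hv, e⟩ := List.mem_map.1 hm
      have := i2 v hv
      rw [e] at this
      exact Nat.not_succ_le_self _ this

theorem sigF_congr {bs : List ℕ} {f g : ℕ → ℕ} (h : ∀ b ∈ bs, f b = g b) :
    sigF bs f = sigF bs g := by
  induction bs with
  | nil => rfl
  | cons b bs ih =>
    change Nat.add (f b) (Nat.mul 65536 (sigF bs f)) = Nat.add (g b) (Nat.mul 65536 (sigF bs g))
    rw [h b List.mem_cons_self, ih fun c hc => h c (List.mem_cons_of_mem _ hc)]

/-- the bound for the order of the centralizer of a table from conjugates that fix a point. -/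
theorem card_centralizer_le (hP : dwOK D) (tr r : ℕ) (hr : r < D.n)
    (htr : allB (trChk D tr r D.n) D.n = true) (kt p0 : ℕ) (hp0 : p0 < D.n) (bs : List ℕ)
    (hbs : ∀ b ∈ bs, b < D.n)
    (ws : List (List ℕ)) (hcj : cjChk D kt p0 bs ws 0 = true) (N M : ℕ)
    (hN : Nat.card ↥(grp D hD) = N)
    (hM : N * fixCnt D kt ≤ M * (ws.length * D.n)) (hpos : 0 < ws.length * D.n) :
    Nat.card ↥(grp D hD ⊓ Subgroup.centralizer ({El D hD kt} : Set (Equiv.Perm (Fin D.n)))) ≤ M := by
  have : MulAction.IsPretransitive ↥(grp D hD) (Fin D.n) := pretransitive_of_tree D hD hP tr r hr htr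
  have : Finite ↥(grp D hD) := inferInstance
  obtain ⟨s1, -, s3⟩ := cjChk_sound D hcj
  let z : ↥(grp D hD) := ⟨El D hD kt, El_mem D hD hP kt⟩
  let gw : List ℕ → ↥(grp D hD) := fun w => ⟨permW D hD w, permW_mem D hD hP w⟩
  let c : ℕ → ↥(grp D hD) := fun i => gw (ws.getD i []) * z * (gw (ws.getD i []))⁻¹
  have hcv : ∀ i, (c i).1 = permW D hD (ws.getD i []) * El D hD kt * (permW D hD (ws.getD i []))⁻¹ :=
    fun i => rfl
  have hmem : ∀ i < ws.length, ws.getD i [] ∈ ws := by
    intro i hi
    rw [List.getD_eq_getElem _ _ hi]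
    exact List.getElem_mem hi
  have key := Cfsg.Agent.Helper9.HeC.card_centralizer_mul_le (G := ↥(grp D hD)) (Ω := Fin D.n) z
    ⟨p0, hp0⟩ (fixCnt D kt) ws.length ?_ c ?_ ?_ ?_
  · rw [Fintype.card_fin, hN] at key
    have e := Cfsg.Agent.Helper9.HeC.centralizerSubgroup (grp D hD) (El D hD kt) (El_mem D hD hP kt)
    rw [← Nat.card_congr e.toEquiv]
    by_contra hlt0
    have hlt := Nat.lt_of_not_le hlt0
    have h1 : M * (ws.length * D.n) <
        Nat.card ↥(Subgroup.centralizer ({z} : Set ↥(grp D hD))) * (ws.length * D.n) :=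
      Nat.mul_lt_mul_of_pos_right hlt hpos
    omega
  · apply le_of_eq
    rw [← card_fix D hD kt]
    rfl
  · intro i _
    exact ⟨gw (ws.getD i []), rfl⟩
  · intro i hi
    apply Fin.ext
    change ((c i).1 ⟨p0, hp0⟩).val = p0
    rw [hcv, conjF_comp]
    exact s1 _ (hmem i hi)
  · intro i hi j hj hij
    have h1 : sigF bs (conjF D kt (ws.getD i [])) = sigF bs (conjF D kt (ws.getD j [])) := by
      apply sigF_congr
      intro b hb'
      have hb : b < D.n := hbs b hb'
      have e1 := conjF_comp D hD kt (ws.getD i []) ⟨b, hb⟩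
      have e2 := conjF_comp D hD kt (ws.getD j []) ⟨b, hb⟩
      rw [← hcv] at e1 e2
      rw [← e1, ← e2, hij]
    have hi' : i < (ws.map fun w => sigF bs (conjF D kt w)).length := by
      rw [List.length_map]; exact hi
    have hj' : j < (ws.map fun w => sigF bs (conjF D kt w)).length := by
      rw [List.length_map]; exact hj
    apply (List.Nodup.getElem_inj_iff s3 (hi := hi') (hj := hj')).1
    rw [List.getElem_map, List.getElem_map, ← List.getD_eq_getElem _ [] hi,
      ← List.getD_eq_getElem _ [] hj]
    exact h1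

end tab

end Cfsg.Agent.Helper9.Co2C

end
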