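import Mathlib
import Cfsg.Agent.Helper9.Co2C.LibA
import Cfsg.Agent.Helper9.Co2C.AbsB

set_option autoImplicit false

/-! Subgroups generated by the tables of a list: lower bounds for their orders, equality of
elements that agree on a base, and the enumeration of a subgroup generated by commuting
involutions modulo a central involution. -/

noncomputable section

namespace Cfsg.Agent.Helper9.Co2C

open Cfsg.Agent.Helper9.OutG Cfsg.Agent.Helper9.J3 Cfsg.Agent.Helper9.PChain
open scoped commutatorElement

variable (D : Dat) (hD : tabOK D)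

/-- the subgroup generated by the tables of a list. -/
def genSub (L : List ℕ) : Subgroup (Equiv.Perm (Fin D.n)) :=
  Subgroup.closure {σ | ∃ k ∈ L, σ = El D hD k}

theorem El_mem_genSub {L : List ℕ} {k : ℕ} (hk : k ∈ L) : El D hD k ∈ genSub D hD L :=
  Subgroup.subset_closure ⟨k, hk, rfl⟩

theorem permW_mem_genSub {L : List ℕ} {w : List ℕ} (hw : ∀ l ∈ w, l ∈ L) :
    permW D hD w ∈ genSub D hD L := by
  apply Subgroup.list_prod_mem
  intro x hx
  obtain ⟨k, hk, rfl⟩ := List.mem_map.1 hx
  exact El_mem_genSub D hD (hw k hk)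

theorem genSub_le_grp (hP : dwOK D) (L : List ℕ) : genSub D hD L ≤ grp D hD := by
  unfold genSub
  rw [Subgroup.closure_le]
  rintro σ ⟨k, -, rfl⟩
  exact El_mem D hD hP k

theorem genSub_mono {L L' : List ℕ} (h : ∀ k ∈ L, k ∈ L') : genSub D hD L ≤ genSub D hD L' := by
  apply Subgroup.closure_mono
  rintro σ ⟨k, hk, rfl⟩
  exact ⟨k, h k hk, rfl⟩

theorem genSub_le_centralizer {L : List ℕ} {kt : ℕ}
    (h : allL (fun k => commChk D k kt) L = true) :
    genSub D hD L ≤ Subgroup.centralizer ({El D hD kt} : Set (Equiv.Perm (Fin D.n))) := by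
  unfold genSub
  rw [Subgroup.closure_le]
  rintro σ ⟨k, hk, rfl⟩
  apply Subgroup.mem_centralizer_singleton_iff.2
  exact commChk_true D hD (allL_true h k hk)

theorem card_genSub_ge {L : List ℕ} (bs : List ℕ) (wss : List (List (List ℕ)))
    (hmem : memWss L wss = true) (hch : chainChk D bs [] wss = true) :
    prodLen wss ≤ Nat.card ↥(genSub D hD L) := by
  apply card_ge_of_chain D hD (genSub D hD L) bs wss ?_ hch
  intro ws hws w hw
  exact permW_mem_genSub D hD (memWss_true hmem ws hws w hw)

/-! ### equality from agreement on a base -/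

/-- the property of a base. -/
def IsBase (bs : List ℕ) : Prop :=
  ∀ g ∈ grp D hD, (∀ x : Fin D.n, x.val ∈ bs → g x = x) → g = 1

theorem eq_of_agreeB {bs : List ℕ} (hB : IsBase D hD bs) {g k : Equiv.Perm (Fin D.n)}
    (hg : g ∈ grp D hD) (hk : k ∈ grp D hD) {f f' : ℕ → ℕ}
    (hf : ∀ x : Fin D.n, (g x).val = f x.val) (hf' : ∀ x : Fin D.n, (k x).val = f' x.val)
    (hb : agreeL bs f f' = true) : g = k := by
  have h1 : k⁻¹ * g = 1 := by
    apply hB _ (Subgroup.mul_mem _ (Subgroup.inv_mem _ hk) hg)
    intro x hx
    rw [Equiv.Perm.mul_apply]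
    apply Equiv.Perm.inv_eq_iff_eq.2
    apply Fin.ext
    rw [hf, hf']
    exact agreeL_true hb x.val hx
  rw [inv_mul_eq_one] at h1
  exact h1.symm

/-! ### normal forms -/

/-- the word of the letters of a list whose places are the binary digits of a number. -/
def nfW (L : List ℕ) (i : ℕ) : List ℕ :=
  List.rec (motive := fun _ => ℕ → List ℕ) (fun _ => [])
    (fun k _ ih j => Bool.rec (ih (Nat.div j 2)) (k :: ih (Nat.div j 2)) (Nat.beq (Nat.mod j 2) 1)) L i

theorem nfW_nil (i : ℕ) : nfW [] i = [] := rfl

theorem nfW_cons (k : ℕ) (L : List ℕ) (j : ℕ) :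
    nfW (k :: L) j = Bool.rec (nfW L (j / 2)) (k :: nfW L (j / 2)) (Nat.beq (j % 2) 1) := rfl

theorem nfW_zero (L : List ℕ) : nfW L 0 = [] := by
  induction L with
  | nil => rfl
  | cons k L ih =>
    rw [nfW_cons]
    change nfW L 0 = []
    exact ih

theorem nfW_mem (L : List ℕ) (i : ℕ) : ∀ l ∈ nfW L i, l ∈ L := by
  induction L generalizing i with
  | nil => intro l hl; exact absurd hl List.not_mem_nil
  | cons k L ih =>
    intro l hl
    rw [nfW_cons] at hl
    cases h : Nat.beq (i % 2) 1
    · rw [h] at hl
      exact List.mem_cons_of_mem _ (ih _ l hl)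
    · rw [h] at hl
      rcases List.mem_cons.1 hl with rfl | hl
      · exact List.mem_cons_self
      · exact List.mem_cons_of_mem _ (ih _ l hl)

/-- the data of the enumeration of a subgroup: the tables of the generators, the last of which is
the central involution, the number of the elements, the base point of the regular orbit with the
words sorted by the images of the base point, the packed indices of the products of the generators
with the elements, and the packed witnesses that the elements are not central. -/
structure QDat where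
  /-- the tables of the generators. -/
  qL : List ℕ
  /-- the table of the central involution. -/
  kt : ℕ
  /-- the number of the elements. -/
  m : ℕ
  /-- the half of the number of the elements. -/
  m2 : ℕ
  /-- the base point. -/
  x0 : ℕ
  /-- the words sorted by the images of the base point. -/
  qws : List (List ℕ)
  /-- the packed indices of the products, 16 bits each. -/
  qmul : ℕ
  /-- the packed witnesses, 4 bits each. -/
  cwit : ℕ

variable (E : QDat)

/-- the generator of a given place. -/
def qGen (a : ℕ) : ℕ := nthN E.qL a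

/-- the check of the product of a generator with an element. -/
def qmulChk (bs : List ℕ) (v : ℕ) : Bool :=
  sapp (fun i' => andB (ltB i' E.m)
    (agreeL bs (fun x => T D (qGen E (Nat.div v E.m)) (evalT D (nfW E.qL (Nat.mod v E.m)) x))
      (evalT D (nfW E.qL i')))) (lkF 16 65535 E.qmul v)

/-- the check of the relations of two generators: they commute modulo the central involution. -/
def qrelChk (bs : List ℕ) (v : ℕ) : Bool :=
  sapp (fun a => sapp (fun b =>
    orB (agreeL bs (fun x => T D a (T D b x)) (fun x => T D b (T D a x)))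
      (agreeL bs (fun x => T D a (T D b x)) (fun x => T D E.kt (T D b (T D a x)))))
    (qGen E (Nat.mod v E.qL.length))) (qGen E (Nat.div v E.qL.length))

/-- the check of the square of a generator: trivial modulo the central involution. -/
def qsqChk (bs : List ℕ) (a : ℕ) : Bool :=
  sapp (fun a => orB (agreeL bs (fun x => T D a (T D a x)) (fun x => x))
    (agreeL bs (fun x => T D a (T D a x)) (T D E.kt))) (qGen E a)

/-- the check that an element outside the centre does not commute with a generator. -/
def qcenChk (i : ℕ) : Bool :=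
  orB (Nat.beq (Nat.mod i E.m2) 0)
    (andB (ltB (lkF 4 15 E.cwit i) E.qL.length)
      (sapp (fun a => notB (Nat.beq (evalT D (nfW E.qL i) (T D a E.x0))
        (T D a (evalT D (nfW E.qL i) E.x0)))) (qGen E (lkF 4 15 E.cwit i))))

/-- the checks of the enumeration. -/
structure QOK (bs : List ℕ) : Prop where
  /-- the number of the elements. -/
  hm : E.m = 2 * E.m2
  /-- the number of the elements is positive. -/
  hm2 : 0 < E.m2
  /-- the products. -/
  hmul : ∀ v, v < E.qL.length * E.m → qmulChk D E bs v = true
  /-- the relations. -/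
  hrel : ∀ v, v < E.qL.length * E.qL.length → qrelChk D E bs v = true
  /-- the squares. -/
  hsq : ∀ a, a < E.qL.length → qsqChk D E bs a = true
  /-- the centre. -/
  hcen : ∀ i, i < E.m → qcenChk D E i = true
  /-- the generators commute with the involution. -/
  hcom : allL (fun k => commChk D k E.kt) E.qL = true
  /-- the chain. -/
  hch : chainChk D [E.x0] [] [E.qws] = true
  /-- the letters of the words of the chain. -/
  hmw : memWss E.qL [E.qws] = true
  /-- the number of the words of the chain. -/
  hpl : E.qws.length = E.m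
  /-- the word of the involution. -/
  h0 : nfW E.qL E.m2 = [E.kt]
  /-- the involution is a generator. -/
  hkt : E.kt ∈ E.qL
  /-- the table of the involution is its own inverse. -/
  hiv : ivI D E.kt = E.kt
  /-- the base point. -/
  hx0 : E.x0 < D.n
  /-- the involution moves the base point. -/
  hmv : Nat.beq (T D E.kt E.x0) E.x0 = false

section qok

variable {D E} {bs : List ℕ} (hB : IsBase D hD bs) (hP : dwOK D) (h : QOK D E bs)

include hB hP h

omit hB hP h in
theorem qGen_mem {a : ℕ} (ha : a < E.qL.length) : qGen E a ∈ E.qL := nthN_mem ha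

theorem q_enum : ∀ y ∈ genSub D hD E.qL, ∃ i, i < E.m ∧ y = permW D hD (nfW E.qL i) := by
  have hmpos : 0 < E.m := by have := h.hm; have := h.hm2; omega
  have key := closure_subset_of_mul_mem {σ | ∃ k ∈ E.qL, σ = El D hD k}
    ((fun i => permW D hD (nfW E.qL i)) '' {i | i < E.m})
    ((Set.finite_lt_nat E.m).image _)
    ⟨0, hmpos, by show permW D hD (nfW E.qL 0) = 1; rw [nfW_zero]; rfl⟩ ?_
  · intro y hy
    obtain ⟨i, hi, e⟩ := key y hy
    exact ⟨i, hi, e.symm⟩
  · rintro s ⟨k, hk, rfl⟩ x ⟨i, hi, rfl⟩
    obtain ⟨a, ha, rfl⟩ := exists_nthN hk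
    have hv : a * E.m + i < E.qL.length * E.m := by
      calc a * E.m + i < a * E.m + E.m := Nat.add_lt_add_left hi _
        _ = (a + 1) * E.m := by ring
        _ ≤ E.qL.length * E.m := Nat.mul_le_mul_right _ ha
    have hc := h.hmul _ hv
    unfold qmulChk at hc
    rw [sapp_eq] at hc
    obtain ⟨h1, h2⟩ := andB_true hc
    have e1 : Nat.div (a * E.m + i) E.m = a := by
      change (a * E.m + i) / E.m = a
      rw [Nat.add_comm, Nat.add_mul_div_right _ _ hmpos, Nat.div_eq_of_lt hi, Nat.zero_add]
    have e2 : Nat.mod (a * E.m + i) E.m = i := by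
      change (a * E.m + i) % E.m = i
      rw [Nat.add_comm, Nat.add_mul_mod_self_right, Nat.mod_eq_of_lt hi]
    rw [e1, e2] at h2
    refine ⟨lkF 16 65535 E.qmul (a * E.m + i), ltB_true h1, ?_⟩
    symm
    apply eq_of_agreeB D hD hB
      (Subgroup.mul_mem _ (El_mem D hD hP _) (permW_mem D hD hP _)) (permW_mem D hD hP _)
      (f := fun x => T D (qGen E a) (evalT D (nfW E.qL i) x))
      (f' := evalT D (nfW E.qL (lkF 16 65535 E.qmul (a * E.m + i)))) ?_ ?_ h2
    · intro x
      rw [Equiv.Perm.mul_apply, El_apply, permW_apply]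
      rfl
    · intro x
      exact permW_apply D hD _ x

theorem q_card : Nat.card ↥(genSub D hD E.qL) = E.m := by
  apply le_antisymm
  · have hen := q_enum hD hB hP h
    let f : ↥(genSub D hD E.qL) → Fin E.m := fun y =>
      ⟨Classical.choose (hen y.1 y.2), (Classical.choose_spec (hen y.1 y.2)).1⟩
    have hf : Function.Injective f := by
      intro y y' e
      apply Subtype.ext
      rw [(Classical.choose_spec (hen y.1 y.2)).2, (Classical.choose_spec (hen y'.1 y'.2)).2]
      have : (f y).val = (f y').val := congrArg Fin.val e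
      exact congrArg (fun i => permW D hD (nfW E.qL i)) this
    have := Nat.card_le_card_of_injective f hf
    rwa [Nat.card_fin] at this
  · have := card_genSub_ge D hD (L := E.qL) [E.x0] [E.qws] h.hmw h.hch
    have e : prodLen [E.qws] = E.m := by
      unfold prodLen
      rw [List.map_cons, List.map_nil, List.prod_cons, List.prod_nil, mul_one, h.hpl]
    rwa [e] at this

omit hB hP in
theorem q_tsq : El D hD E.kt * El D hD E.kt = 1 := by
  have := El_iv D hD E.kt
  rw [h.hiv] at this
  nth_rewrite 1 [this]
  exact inv_mul_cancel _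

omit hB hP in
theorem q_t1 : El D hD E.kt ≠ 1 := by
  intro e
  have h1 := El_apply D hD E.kt ⟨E.x0, h.hx0⟩
  rw [e] at h1
  change E.x0 = T D E.kt E.x0 at h1
  have h2 := h.hmv
  rw [← h1, Nat.beq_refl] at h2
  exact Bool.noConfusion h2

theorem q_rel : (∀ x ∈ genSub D hD E.qL, x * El D hD E.kt = El D hD E.kt * x) ∧
    (∀ x ∈ genSub D hD E.qL, ∀ y ∈ genSub D hD E.qL, ⁅x, y⁆ = 1 ∨ ⁅x, y⁆ = El D hD E.kt) ∧
    (∀ x ∈ genSub D hD E.qL, x * x = 1 ∨ x * x = El D hD E.kt) := by
  apply comm_sq_of_gens (El D hD E.kt) (q_tsq hD h) {σ | ∃ k ∈ E.qL, σ = El D hD k}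
  · rintro s ⟨k, hk, rfl⟩
    exact commChk_true D hD (allL_true h.hcom k hk)
  · rintro s ⟨k, hk, rfl⟩ s' ⟨k', hk', rfl⟩
    obtain ⟨a, ha, rfl⟩ := exists_nthN hk
    obtain ⟨b, hb, rfl⟩ := exists_nthN hk'
    have hlen : 0 < E.qL.length := lt_of_le_of_lt (Nat.zero_le _) ha
    have hv : a * E.qL.length + b < E.qL.length * E.qL.length := by
      calc a * E.qL.length + b < a * E.qL.length + E.qL.length := Nat.add_lt_add_left hb _
        _ = (a + 1) * E.qL.length := by ring
        _ ≤ E.qL.length * E.qL.length := Nat.mul_le_mul_right _ ha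
    have hc := h.hrel _ hv
    unfold qrelChk at hc
    rw [sapp_eq, sapp_eq] at hc
    have e1 : Nat.div (a * E.qL.length + b) E.qL.length = a := by
      change (a * E.qL.length + b) / E.qL.length = a
      rw [Nat.add_comm, Nat.add_mul_div_right _ _ hlen, Nat.div_eq_of_lt hb, Nat.zero_add]
    have e2 : Nat.mod (a * E.qL.length + b) E.qL.length = b := by
      change (a * E.qL.length + b) % E.qL.length = b
      rw [Nat.add_comm, Nat.add_mul_mod_self_right, Nat.mod_eq_of_lt hb]
    rw [e1, e2] at hc
    change ⁅El D hD (qGen E a), El D hD (qGen E b)⁆ = 1 ∨ ⁅El D hD (qGen E a), El D hD (qGen E b)⁆ = _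
    rcases orB_true hc with h1 | h1
    · left
      rw [commutatorElement_eq_one_iff_commute]
      apply eq_of_agreeB D hD hB
        (Subgroup.mul_mem _ (El_mem D hD hP _) (El_mem D hD hP _))
        (Subgroup.mul_mem _ (El_mem D hD hP _) (El_mem D hD hP _))
        (f := fun x => T D (qGen E a) (T D (qGen E b) x))
        (f' := fun x => T D (qGen E b) (T D (qGen E a) x)) ?_ ?_ h1
      · intro x; rfl
      · intro x; rfl
    · right
      have e : El D hD (qGen E a) * El D hD (qGen E b) =
          El D hD E.kt * (El D hD (qGen E b) * El D hD (qGen E a)) := by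
        apply eq_of_agreeB D hD hB
          (Subgroup.mul_mem _ (El_mem D hD hP _) (El_mem D hD hP _))
          (Subgroup.mul_mem _ (El_mem D hD hP _)
            (Subgroup.mul_mem _ (El_mem D hD hP _) (El_mem D hD hP _)))
          (f := fun x => T D (qGen E a) (T D (qGen E b) x))
          (f' := fun x => T D E.kt (T D (qGen E b) (T D (qGen E a) x))) ?_ ?_ h1
        · intro x; rfl
        · intro x; rfl
      rw [commutatorElement_def, e]
      generalize El D hD E.kt = t
      generalize El D hD (qGen E a) = A
      generalize El D hD (qGen E b) = B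
      group
  · rintro s ⟨k, hk, rfl⟩
    obtain ⟨a, ha, rfl⟩ := exists_nthN hk
    have hc := h.hsq a ha
    unfold qsqChk at hc
    rw [sapp_eq] at hc
    change El D hD (qGen E a) * El D hD (qGen E a) = 1 ∨ _
    rcases orB_true hc with h1 | h1
    · left
      apply eq_of_agreeB D hD hB
        (Subgroup.mul_mem _ (El_mem D hD hP _) (El_mem D hD hP _)) (Subgroup.one_mem _)
        (f := fun x => T D (qGen E a) (T D (qGen E a) x)) (f' := fun x => x) ?_ ?_ h1
      · intro x; rfl
      · intro x; rfl
    · right
      apply eq_of_agreeB D hD hB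
        (Subgroup.mul_mem _ (El_mem D hD hP _) (El_mem D hD hP _)) (El_mem D hD hP _)
        (f := fun x => T D (qGen E a) (T D (qGen E a) x)) (f' := T D E.kt) ?_ ?_ h1
      · intro x; rfl
      · intro x; rfl

theorem q_center : ∀ x ∈ genSub D hD E.qL, (∀ y ∈ genSub D hD E.qL, x * y = y * x) →
    x = 1 ∨ x = El D hD E.kt := by
  intro x hx hcx
  obtain ⟨i, hi, rfl⟩ := q_enum hD hB hP h x hx
  rcases orB_true (h.hcen i hi) with h1 | h1
  · have h2 : i % E.m2 = 0 := Nat.eq_of_beq_eq_true h1
    have hm := h.hm
    have h3 : i = 0 ∨ i = E.m2 := by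
      obtain ⟨c, hc⟩ := Nat.dvd_of_mod_eq_zero h2
      have : c < 2 := by
        by_contra hcc
        push Not at hcc
        have : E.m2 * 2 ≤ E.m2 * c := Nat.mul_le_mul_left _ hcc
        omega
      interval_cases c
      · left; rw [hc, mul_zero]
      · right; rw [hc, mul_one]
    rcases h3 with rfl | rfl
    · left
      rw [nfW_zero]
      rfl
    · right
      rw [h.h0, permW_single]
  · exfalso
    obtain ⟨h2, h3⟩ := andB_true h1
    rw [sapp_eq] at h3
    have h4 := notB_true h3
    have ha : qGen E (lkF 4 15 E.cwit i) ∈ E.qL := qGen_mem (ltB_true h2)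
    have h5 := hcx _ (El_mem_genSub D hD ha)
    have h6 : evalT D (nfW E.qL i) (T D (qGen E (lkF 4 15 E.cwit i)) E.x0) =
        T D (qGen E (lkF 4 15 E.cwit i)) (evalT D (nfW E.qL i) E.x0) := by
      have h7 := congrArg (fun σ : Equiv.Perm (Fin D.n) => (σ ⟨E.x0, h.hx0⟩).val) h5
      change (permW D hD (nfW E.qL i) (El D hD _ ⟨E.x0, h.hx0⟩)).val =
        (El D hD _ (permW D hD (nfW E.qL i) ⟨E.x0, h.hx0⟩)).val at h7
      rw [permW_apply, El_apply, El_apply, permW_apply] at h7
      exact h7
    rw [h6, Nat.beq_refl] at h4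
    exact Bool.noConfusion h4

end qok

end Cfsg.Agent.Helper9.Co2C

end
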