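import Mathlib
import Cfsg.Agent.Helper9.Co2C.LibB

set_option autoImplicit false

/-! The centralizer of an involution given by tables: generators, the normal subgroup generated by
commuting involutions modulo the involution, the action on the blocks of a partition of the points,
and the structure of the centralizer. -/

noncomputable section

namespace Cfsg.Agent.Helper9.Co2C

open Cfsg Cfsg.Agent.Helper9.OutG Cfsg.Agent.Helper9.J3 Cfsg.Agent.Helper9.PChain
open scoped commutatorElement

/-- the data of the centralizer: the tables of the generators, the chain, the order, the packed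
indices of the conjugates of the generators of the normal subgroup, the packed numbers of the
blocks of the points, the packed tables of the permutations of the blocks of the generators, the
packed representatives of the blocks, and the places of the generators whose permutations of the
blocks are the letters. -/
structure CDat where
  /-- the tables of the generators. -/
  cgL : List ℕ
  /-- the base. -/
  cbs : List ℕ
  /-- the words of the levels. -/
  cwss : List (List (List ℕ))
  /-- the order. -/
  NC : ℕ
  /-- the packed indices of the conjugates, 16 bits each. -/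
  qnorm : ℕ
  /-- the packed numbers of the blocks, 6 bits each. -/
  blk : ℕ
  /-- the packed tables of the permutations of the blocks, 8 bits each. -/
  lam : ℕ
  /-- the packed representatives of the blocks, 16 bits each. -/
  rep : ℕ
  /-- the places of the generators of the letters. -/
  letC : List ℕ

variable (D D' : Dat) (E : QDat) (F : CDat)

/-- the number of the block of a point. -/
def blkN (x : ℕ) : ℕ := lkF 6 63 F.blk x

theorem blkN_lt (x : ℕ) : blkN F x < 64 := lkF_lt 6 F.blk x

/-- the check of the conjugate of a generator of the normal subgroup by a generator. -/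
def qnormChk (bs : List ℕ) (v : ℕ) : Bool :=
  sapp (fun c => sapp (fun s => sapp (fun i' => andB (ltB i' E.m)
    (agreeL bs (fun x => T D c (T D s (T D (ivI D c) x))) (evalT D (nfW E.qL i'))))
      (lkF 16 65535 F.qnorm v)) (qGen E (Nat.mod v E.qL.length)))
    (nthN F.cgL (Nat.div v E.qL.length))

/-- the check of the permutation of the blocks of a generator. -/
def blkChk (ci : ℕ) : Bool :=
  sapp (fun c => sapp (fun l =>
    allB (fun x => Nat.beq (blkN F (T D c x)) (T D' l (blkN F x))) D.n) (lkF 8 255 F.lam ci))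
    (nthN F.cgL ci)

/-- the checks of the centralizer. -/
structure COK (bs : List ℕ) : Prop where
  /-- the generators commute with the involution. -/
  hcomm : allL (fun k => commChk D k E.kt) F.cgL = true
  /-- the generators of the normal subgroup are generators. -/
  hq : allL (fun k => memN k F.cgL) E.qL = true
  /-- the chain. -/
  hch : chainChk D F.cbs [] F.cwss = true
  /-- the letters of the words of the chain. -/
  hmw : memWss F.cgL F.cwss = true
  /-- the product of the numbers of words of the levels. -/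
  hpl : prodLen F.cwss = F.NC
  /-- the conjugates. -/
  hnorm : ∀ v, v < F.cgL.length * E.qL.length → qnormChk D E F bs v = true
  /-- the permutations of the blocks. -/
  hblk : ∀ ci, ci < F.cgL.length → blkChk D D' F ci = true
  /-- the generators of the normal subgroup fix the blocks. -/
  hqblk : allL (fun s => allB (fun x => Nat.beq (blkN F (T D s x)) (blkN F x)) D.n) E.qL = true
  /-- the representatives of the blocks. -/
  hrep : allB (fun v => andB (ltB (lkF 16 65535 F.rep v) D.n)
    (Nat.beq (blkN F (lkF 16 65535 F.rep v)) v)) D'.n = true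
  /-- the letters. -/
  hlet : allB (fun l => andB (ltB (nthN F.letC l) F.cgL.length)
    (Nat.beq (lkF 8 255 F.lam (nthN F.letC l)) l)) D'.L = true
  /-- the number of the blocks. -/
  h64 : 64 ≤ D'.n

section cok

variable {D D' E F} (hD : tabOK D) (hD' : tabOK D') {bs : List ℕ} (hB : IsBase D hD bs)
  (hP : dwOK D) (hP' : dwOK D') (hQ : QOK D E bs) (h : COK D D' E F bs)

include hB hP h in
/-- the generators normalize the normal subgroup. -/
theorem conj_mem_of_gen : ∀ c ∈ genSub D hD F.cgL, ∀ q ∈ genSub D hD E.qL,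
    c * q * c⁻¹ ∈ genSub D hD E.qL := by
  -- a generator maps the normal subgroup into itself
  have h1 : ∀ k ∈ F.cgL, ∀ q ∈ genSub D hD E.qL, El D hD k * q * (El D hD k)⁻¹ ∈ genSub D hD E.qL := by
    intro k hk
    have hle : genSub D hD E.qL ≤
        (genSub D hD E.qL).comap (MulAut.conj (El D hD k)).toMonoidHom := by
      unfold genSub
      rw [Subgroup.closure_le]
      rintro σ ⟨s, hs, rfl⟩
      change MulAut.conj (El D hD k) (El D hD s) ∈ Subgroup.closure _
      rw [MulAut.conj_apply]
      obtain ⟨ci, hci, rfl⟩ := exists_nthN hk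
      obtain ⟨a, ha, rfl⟩ := exists_nthN hs
      have hlen : 0 < E.qL.length := lt_of_le_of_lt (Nat.zero_le _) ha
      have hv : ci * E.qL.length + a < F.cgL.length * E.qL.length := by
        calc ci * E.qL.length + a < ci * E.qL.length + E.qL.length := Nat.add_lt_add_left ha _
          _ = (ci + 1) * E.qL.length := by ring
          _ ≤ F.cgL.length * E.qL.length := Nat.mul_le_mul_right _ hci
      have hc := h.hnorm _ hv
      unfold qnormChk at hc
      rw [sapp_eq, sapp_eq, sapp_eq] at hc
      have e1 : Nat.div (ci * E.qL.length + a) E.qL.length = ci := by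
        change (ci * E.qL.length + a) / E.qL.length = ci
        rw [Nat.add_comm, Nat.add_mul_div_right _ _ hlen, Nat.div_eq_of_lt ha, Nat.zero_add]
      have e2 : Nat.mod (ci * E.qL.length + a) E.qL.length = a := by
        change (ci * E.qL.length + a) % E.qL.length = a
        rw [Nat.add_comm, Nat.add_mul_mod_self_right, Nat.mod_eq_of_lt ha]
      rw [e1, e2] at hc
      obtain ⟨-, h2⟩ := andB_true hc
      have e : El D hD (nthN F.cgL ci) * El D hD (nthN E.qL a) * (El D hD (nthN F.cgL ci))⁻¹ =
          permW D hD (nfW E.qL (lkF 16 65535 F.qnorm (ci * E.qL.length + a))) := by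
        apply eq_of_agreeB D hD hB
          (Subgroup.mul_mem _ (Subgroup.mul_mem _ (El_mem D hD hP _) (El_mem D hD hP _))
            (Subgroup.inv_mem _ (El_mem D hD hP _))) (permW_mem D hD hP _)
          (f := fun x => T D (nthN F.cgL ci) (T D (qGen E a) (T D (ivI D (nthN F.cgL ci)) x)))
          (f' := evalT D (nfW E.qL (lkF 16 65535 F.qnorm (ci * E.qL.length + a)))) ?_ ?_ h2
        · intro x
          rw [← El_iv D hD, Equiv.Perm.mul_apply, Equiv.Perm.mul_apply, El_apply, El_apply, El_apply]
          rfl
        · intro x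
          exact permW_apply D hD _ x
      rw [e]
      exact permW_mem_genSub D hD (nfW_mem _ _)
    intro q hq
    exact hle hq
  intro c hc
  induction hc using Subgroup.closure_induction with
  | mem σ hσ =>
    obtain ⟨k, hk, rfl⟩ := hσ
    exact h1 k hk
  | one => intro q hq; rwa [one_mul, inv_one, mul_one]
  | mul a b _ _ iha ihb =>
    intro q hq
    have : a * b * q * (a * b)⁻¹ = a * (b * q * b⁻¹) * a⁻¹ := by group
    rw [this]
    exact iha _ (ihb q hq)
  | inv a ha iha =>
    -- the inverse of a generator is a generator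
    intro q hq
    -- the conjugation by `a` maps the finite subgroup into itself, injectively
    have : Finite ↥(genSub D hD E.qL) := inferInstance
    let f : ↥(genSub D hD E.qL) → ↥(genSub D hD E.qL) := fun z => ⟨a * z.1 * a⁻¹, iha z.1 z.2⟩
    have hinj : Function.Injective f := by
      intro z z' e
      have e' : a * z.1 * a⁻¹ = a * z'.1 * a⁻¹ := congrArg Subtype.val e
      exact Subtype.ext (mul_left_cancel (mul_right_cancel e'))
    obtain ⟨z, hz⟩ := (Finite.injective_iff_surjective.1 hinj) ⟨q, hq⟩
    have hz' : a * z.1 * a⁻¹ = q := congrArg Subtype.val hz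
    have : a⁻¹ * q * a⁻¹⁻¹ = z.1 := by rw [← hz']; group
    rw [this]
    exact z.2

/-- the block of a point. -/
def blkF (h64 : 64 ≤ D'.n) (x : Fin D.n) : Fin D'.n := ⟨blkN F x.val, lt_of_lt_of_le (blkN_lt F _) h64⟩

include h in
theorem blkF_surjective : Function.Surjective (blkF (D := D) (F := F) h.h64) := by
  intro v
  obtain ⟨h1, h2⟩ := andB_true (allB_true h.hrep v.isLt)
  refine ⟨⟨lkF 16 65535 F.rep v.val, ltB_true h1⟩, ?_⟩
  apply Fin.ext
  exact Nat.eq_of_beq_eq_true h2

include h in
theorem gen_mem_descSub {ci : ℕ} (hci : ci < F.cgL.length) :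
    ∀ x, blkF (F := F) h.h64 (El D hD (nthN F.cgL ci) x) =
      El D' hD' (lkF 8 255 F.lam ci) (blkF (F := F) h.h64 x) := by
  intro x
  have hc := h.hblk ci hci
  unfold blkChk at hc
  rw [sapp_eq, sapp_eq] at hc
  apply Fin.ext
  rw [El_apply]
  change blkN F (El D hD (nthN F.cgL ci) x).val = _
  rw [El_apply]
  exact Nat.eq_of_beq_eq_true (allB_true hc x.isLt)

include hD' h in
theorem genSub_le_descSub : genSub D hD F.cgL ≤ descSub (blkF (D := D) (F := F) h.h64) := by
  unfold genSub
  rw [Subgroup.closure_le]
  rintro σ ⟨k, hk, rfl⟩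
  obtain ⟨ci, hci, rfl⟩ := exists_nthN hk
  exact ⟨El D' hD' (lkF 8 255 F.lam ci), gen_mem_descSub hD hD' h hci⟩

/-- the action of the subgroup generated on the blocks. -/
def sigHom : ↥(genSub D hD F.cgL) →* Equiv.Perm (Fin D'.n) :=
  (descHom (blkF (D := D) (F := F) h.h64) (blkF_surjective h)).comp
    (Subgroup.inclusion (genSub_le_descSub hD hD' h))

theorem sigHom_spec (c : ↥(genSub D hD F.cgL)) (x : Fin D.n) :
    blkF (F := F) h.h64 (c.1 x) = sigHom hD hD' h c (blkF (F := F) h.h64 x) :=
  descHom_spec _ (blkF_surjective h) (Subgroup.inclusion (genSub_le_descSub hD hD' h) c) x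

theorem sigHom_gen {ci : ℕ} (hci : ci < F.cgL.length) :
    sigHom hD hD' h ⟨El D hD (nthN F.cgL ci), El_mem_genSub D hD (nthN_mem hci)⟩ =
      El D' hD' (lkF 8 255 F.lam ci) :=
  descHom_eq _ (blkF_surjective h) (gen_mem_descSub hD hD' h hci)

include hP' in
theorem sigHom_range : (sigHom hD hD' h).range = grp D' hD' := by
  apply le_antisymm
  · rintro _ ⟨c, rfl⟩
    obtain ⟨c, hc⟩ := c
    induction hc using Subgroup.closure_induction with
    | mem σ hσ =>
      obtain ⟨k, hk, rfl⟩ := hσ
      obtain ⟨ci, hci, rfl⟩ := exists_nthN hk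
      rw [sigHom_gen hD hD' h hci]
      exact El_mem D' hD' hP' _
    | one =>
      have : (⟨1, Subgroup.one_mem _⟩ : ↥(genSub D hD F.cgL)) = 1 := rfl
      rw [this, map_one]
      exact Subgroup.one_mem _
    | mul a b ha hb iha ihb =>
      have : (⟨a * b, Subgroup.mul_mem _ ha hb⟩ : ↥(genSub D hD F.cgL)) = ⟨a, ha⟩ * ⟨b, hb⟩ := rfl
      rw [this, map_mul]
      exact Subgroup.mul_mem _ iha ihb
    | inv a ha iha =>
      have : (⟨a⁻¹, Subgroup.inv_mem _ ha⟩ : ↥(genSub D hD F.cgL)) = (⟨a, ha⟩)⁻¹ := rfl
      rw [this, map_inv]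
      exact Subgroup.inv_mem _ iha
  · unfold grp
    rw [Subgroup.closure_le]
    rintro _ ⟨l, rfl⟩
    obtain ⟨h1, h2⟩ := andB_true (allB_true h.hlet l.isLt)
    have hci : nthN F.letC l.val < F.cgL.length := ltB_true h1
    refine ⟨⟨El D hD (nthN F.cgL (nthN F.letC l.val)), El_mem_genSub D hD (nthN_mem hci)⟩, ?_⟩
    rw [sigHom_gen hD hD' h hci, Nat.eq_of_beq_eq_true h2]

theorem sigHom_q (c : ↥(genSub D hD F.cgL)) (hc : c.1 ∈ genSub D hD E.qL) :
    sigHom hD hD' h c = 1 := by
  apply descHom_eq _ (blkF_surjective h)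
  intro x
  rw [Equiv.Perm.one_apply]
  obtain ⟨c, hc'⟩ := c
  change blkF (F := F) h.h64 (c x) = blkF (F := F) h.h64 x
  have hc2 : c ∈ genSub D hD E.qL := hc
  clear hc hc'
  revert x
  induction hc2 using Subgroup.closure_induction with
  | mem σ hσ =>
    obtain ⟨s, hs, rfl⟩ := hσ
    intro x
    apply Fin.ext
    change blkN F (El D hD s x).val = blkN F x.val
    rw [El_apply]
    exact Nat.eq_of_beq_eq_true (allB_true (allL_true h.hqblk s hs) x.isLt)
  | one => intro x; rfl
  | mul a b _ _ iha ihb =>
    intro x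
    rw [Equiv.Perm.mul_apply, iha, ihb]
  | inv a _ iha =>
    intro x
    have := iha (a⁻¹ x)
    rw [Equiv.Perm.inv_def, Equiv.apply_symm_apply] at this
    exact this.symm

include hB hP hP' hQ h in
/-- the structure of the centralizer. -/
theorem goodC_main
    (hub : Nat.card ↥(grp D hD ⊓
      Subgroup.centralizer ({El D hD E.kt} : Set (Equiv.Perm (Fin D.n)))) ≤ F.NC)
    (N63 : ℕ) (hN63 : N63 ≤ Nat.card ↥(grp D' hD')) (hNC : F.NC = E.m * N63) (hpos : 0 < N63)
    (hm : E.m = 2 ^ 9)
    (hS : ∀ N : Subgroup ↥(grp D' hD'), N.Normal → IsPGroup 2 N → N = ⊥)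
    (iso : ↥(grp D' hD') ≃* Matrix.symplecticGroup (Fin 3) (ZMod 2)) :
    GoodC ↥(grp D hD ⊓ Subgroup.centralizer ({El D hD E.kt} : Set (Equiv.Perm (Fin D.n)))) := by
  have hle : genSub D hD F.cgL ≤
      grp D hD ⊓ Subgroup.centralizer ({El D hD E.kt} : Set (Equiv.Perm (Fin D.n))) :=
    le_inf (genSub_le_grp D hD hP _) (genSub_le_centralizer D hD h.hcomm)
  have hge : F.NC ≤ Nat.card ↥(genSub D hD F.cgL) := by
    have := card_genSub_ge D hD (L := F.cgL) F.cbs F.cwss h.hmw h.hch
    rwa [h.hpl] at this
  have heq : genSub D hD F.cgL =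
      grp D hD ⊓ Subgroup.centralizer ({El D hD E.kt} : Set (Equiv.Perm (Fin D.n))) :=
    Subgroup.eq_of_le_of_card_ge hle (le_trans hub hge)
  have hcard : Nat.card ↥(genSub D hD F.cgL) = F.NC := by
    apply le_antisymm _ hge
    rw [heq]
    exact hub
  refine goodC_congr (MulEquiv.subgroupCongr heq) ?_
  have hQle : genSub D hD E.qL ≤ genSub D hD F.cgL :=
    genSub_mono D hD fun k hk => memN_true (allL_true h.hq k hk)
  have hktC : El D hD E.kt ∈ genSub D hD F.cgL := hQle (El_mem_genSub D hD hQ.hkt)
  obtain ⟨r1, r2, r3⟩ := q_rel hD hB hP hQ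
  have hcen := q_center hD hB hP hQ
  -- the homomorphism onto the group of the permutations of the blocks
  have hrange := sigHom_range hD hD' hP' h
  let σ' : ↥(genSub D hD F.cgL) →* ↥(grp D' hD') :=
    (sigHom hD hD' h).codRestrict (grp D' hD') (fun c => by rw [← hrange]; exact ⟨c, rfl⟩)
  have hσ' : ∀ c, (σ' c).1 = sigHom hD hD' h c := fun _ => rfl
  have hsurj : Function.Surjective σ' := by
    intro y
    have : y.1 ∈ (sigHom hD hD' h).range := by rw [hrange]; exact y.2
    obtain ⟨c, hc⟩ := this
    exact ⟨c, Subtype.ext hc⟩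
  have hQker : (genSub D hD E.qL).subgroupOf (genSub D hD F.cgL) ≤ σ'.ker := by
    intro c hc
    rw [MonoidHom.mem_ker]
    apply Subtype.ext
    rw [hσ']
    exact sigHom_q hD hD' h c (Subgroup.mem_subgroupOf.1 hc)
  have hQcard : Nat.card ↥((genSub D hD E.qL).subgroupOf (genSub D hD F.cgL)) = E.m := by
    rw [← q_card hD hB hP hQ]
    exact Nat.card_congr (Subgroup.subgroupOfEquivOfLe hQle).toEquiv
  have hker : σ'.ker = (genSub D hD E.qL).subgroupOf (genSub D hD F.cgL) := by
    symm
    apply Subgroup.eq_of_le_of_card_ge hQker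
    rw [hQcard]
    have h1 := Subgroup.card_eq_card_quotient_mul_card_subgroup σ'.ker
    have h2 : Nat.card (↥(genSub D hD F.cgL) ⧸ σ'.ker) = Nat.card ↥(grp D' hD') :=
      Nat.card_congr (QuotientGroup.quotientKerEquivOfSurjective σ' hsurj).toEquiv
    rw [h2, hcard, hNC] at h1
    by_contra hlt
    push Not at hlt
    have h3 : N63 * E.m < Nat.card ↥(grp D' hD') * Nat.card ↥σ'.ker := by
      calc N63 * E.m < N63 * Nat.card ↥σ'.ker := Nat.mul_lt_mul_of_pos_left hlt hpos
        _ ≤ Nat.card ↥(grp D' hD') * Nat.card ↥σ'.ker := Nat.mul_le_mul_right _ hN63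
    rw [← h1, Nat.mul_comm] at h3
    exact lt_irrefl _ h3
  have hnormal : ((genSub D hD E.qL).subgroupOf (genSub D hD F.cgL)).Normal := by
    rw [← hker]
    infer_instance
  apply goodC_of_data (⟨El D hD E.kt, hktC⟩ : ↥(genSub D hD F.cgL))
    ((genSub D hD E.qL).subgroupOf (genSub D hD F.cgL)) hnormal (by rw [hQcard, hm])
    (Subgroup.mem_subgroupOf.2 (El_mem_genSub D hD hQ.hkt))
    (fun e => q_t1 hD hQ (congrArg Subtype.val e)) ?_ ?_ ?_ ?_ σ' hsurj hker hS iso
  · intro x hx y hy
    have := r2 x.1 (Subgroup.mem_subgroupOf.1 hx) y.1 (Subgroup.mem_subgroupOf.1 hy)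
    rw [commutatorElement_def] at this
    rcases this with e | e
    · left; exact Subtype.ext e
    · right; exact Subtype.ext e
  · intro x hx
    rcases r3 x.1 (Subgroup.mem_subgroupOf.1 hx) with e | e
    · left; exact Subtype.ext e
    · right; exact Subtype.ext e
  · intro x hx hxy
    have := hcen x.1 (Subgroup.mem_subgroupOf.1 hx) (fun y hy => by
      have := hxy ⟨y, hQle hy⟩ (Subgroup.mem_subgroupOf.2 hy)
      exact congrArg Subtype.val this)
    rcases this with e | e
    · left; exact Subtype.ext e
    · right; exact Subtype.ext e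
  · intro y hy
    exact Subtype.ext (r1 y.1 (Subgroup.mem_subgroupOf.1 hy))

end cok

end Cfsg.Agent.Helper9.Co2C

end
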