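import Mathlib
import Cfsg.Agent.Helper9.Co2C.LibC

set_option autoImplicit false

/-! Groups of permutations given by tables that fix a point and are transitive on the others have
no normal 2-subgroups when the degree is even; the statement on the centralizer of an involution
of a group from the statement on the centralizer in an isomorphic group of permutations. -/

noncomputable section

namespace Cfsg.Agent.Helper9.Co2C

open Cfsg Cfsg.Agent.Helper9.OutG Cfsg.Agent.Helper9.J3 Cfsg.Agent.Helper9.PChain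

variable (D' : Dat) (hD' : tabOK D') (hP' : dwOK D')

include hP' in
theorem no_normal_two (heven : Even D'.n) (h0 : 0 < D'.n)
    (hfix : allB (fun l => Nat.beq (T D' l 0) 0) D'.L = true) (tr r : ℕ) (hr : r < D'.n)
    (htr : allB (trChk D' tr r 0) D'.n = true) :
    ∀ N : Subgroup ↥(grp D' hD'), N.Normal → IsPGroup 2 N → N = ⊥ := by
  intro N hN hN2
  have hfix' : ∀ s ∈ grp D' hD', s ⟨0, h0⟩ = ⟨0, h0⟩ := by
    intro s hs
    unfold grp at hs
    induction hs using Subgroup.closure_induction with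
    | mem σ hσ =>
      obtain ⟨l, rfl⟩ := hσ
      apply Fin.ext
      rw [El_apply]
      exact Nat.eq_of_beq_eq_true (allB_true hfix l.isLt)
    | one => rfl
    | mul a b _ _ iha ihb => rw [Equiv.Perm.mul_apply, ihb, iha]
    | inv a _ iha =>
      rw [Equiv.Perm.inv_def, Equiv.symm_apply_eq]
      exact iha.symm
  have key := eq_bot_of_normal_two_group (grp D' hD') (N.map (grp D' hD').subtype) ?_
    (hN2.map _) heven ⟨0, h0⟩ ?_ ?_
  · rw [Subgroup.eq_bot_iff_forall]
    intro x hx
    have : (grp D' hD').subtype x ∈ N.map (grp D' hD').subtype := Subgroup.mem_map_of_mem _ hx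
    rw [key, Subgroup.mem_bot] at this
    exact Subtype.ext this
  · rintro s hs _ ⟨g, hg, rfl⟩
    exact ⟨⟨s, hs⟩ * g * (⟨s, hs⟩ : ↥(grp D' hD'))⁻¹, hN.conj_mem g hg ⟨s, hs⟩, rfl⟩
  · rintro _ ⟨g, -, rfl⟩
    exact hfix' g.1 g.2
  · intro x y hx hy
    have hx' : x.val ≠ 0 := fun e => hx (Fin.ext e)
    have hy' : y.val ≠ 0 := fun e => hy (Fin.ext e)
    obtain ⟨g, hg, hgx⟩ := exists_of_tree D' hD' hP' tr r 0 hr htr x hx'
    obtain ⟨k, hk, hky⟩ := exists_of_tree D' hD' hP' tr r 0 hr htr y hy'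
    refine ⟨k * g⁻¹, Subgroup.mul_mem _ hk (Subgroup.inv_mem _ hg), ?_⟩
    rw [Equiv.Perm.mul_apply, ← hgx, Equiv.Perm.inv_def, Equiv.symm_apply_apply, hky]

/-- the statement on the centralizer of an involution of a group from the statement on the
centralizer in an isomorphic group of permutations. -/
theorem final_of_goodC {X : Type*} [Group X] {n : ℕ} (G : Subgroup (Equiv.Perm (Fin n)))
    (e : X ≃* ↥G) (t : Equiv.Perm (Fin n)) (ht : t ∈ G) (ht2 : t * t = 1) (ht1 : t ≠ 1)
    (hg : GoodC ↥(G ⊓ Subgroup.centralizer ({t} : Set (Equiv.Perm (Fin n))))) :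
    ∃ t0 : X, orderOf t0 = 2 ∧
      IsExtraspecial 2 (pCore 2 ↥(Subgroup.centralizer ({t0} : Set X))) ∧
      Nat.card (pCore 2 ↥(Subgroup.centralizer ({t0} : Set X))) = 2 ^ 9 ∧
      Nonempty (↥(Subgroup.centralizer ({t0} : Set X)) ⧸
        pCore 2 ↥(Subgroup.centralizer ({t0} : Set X)) ≃*
          Matrix.symplecticGroup (Fin 3) (ZMod 2)) := by
  have : Fact (Nat.Prime 2) := ⟨Nat.prime_two⟩
  refine ⟨e.symm ⟨t, ht⟩, ?_, ?_⟩
  · apply orderOf_eq_prime
    · rw [pow_two, ← map_mul]
      have : (⟨t, ht⟩ : ↥G) * ⟨t, ht⟩ = 1 := Subtype.ext ht2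
      rw [this, map_one]
    · intro h1
      have h2 : e (e.symm ⟨t, ht⟩) = e 1 := congrArg e h1
      rw [e.apply_symm_apply, map_one] at h2
      exact ht1 (congrArg Subtype.val h2)
  · have e1 := Cfsg.Agent.Helper9.HeC.centralizerCongr e (e.symm ⟨t, ht⟩)
    rw [e.apply_symm_apply] at e1
    have e2 := Cfsg.Agent.Helper9.HeC.centralizerSubgroup G t ht
    exact goodC_congr (e1.trans e2).symm hg

end Cfsg.Agent.Helper9.Co2C

end
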