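import Mathlib
import Cfsg.Agent.Helper9.Co2C.Chk
import Cfsg.Agent.Helper9.Co2C.Core2

set_option autoImplicit false

/-! The centralizer of an involution of the second Conway group whose fixed points are 56 of the
4600 points: the assembly. -/

noncomputable section

namespace Cfsg.Agent.Helper9.Co2C

open Cfsg Cfsg.Agent.Helper9.OutG Cfsg.Agent.Helper9.J3 Cfsg.Agent.Helper9.Co2O

theorem el_eq (l : ℕ) (hl : l < 4) : El cD cTab l = El dD core2.tab l := by
  apply perm_ext cD
  intro x
  have h1 := allB_true let_c hl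
  have h2 := allB_true h1 x.isLt
  exact Nat.eq_of_beq_eq_true h2

theorem grp_eq : grp cD cTab = GS core2 := by
  have e : (Set.range fun l : Fin cD.L => El cD cTab ↑l) =
      Set.range fun l : Fin dD.L => El dD core2.tab ↑l := by
    ext g
    constructor
    · rintro ⟨l, rfl⟩
      exact ⟨l, (el_eq l.val l.isLt).symm⟩
    · rintro ⟨l, rfl⟩
      exact ⟨l, el_eq l.val l.isLt⟩
  exact congrArg Subgroup.closure e

theorem card_grp : Nat.card ↥(grp cD cTab) = 42305421312000 := by
  rw [grp_eq]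
  exact co2_iso.2

theorem base_c : IsBase cD cTab dC.bs := by
  intro g hg hfix
  rw [grp_eq] at hg
  have hle : Nat.card ↥(GS core2) ≤ prodLen dC.wss := by
    rw [co2_iso.2, core2.plen]
  exact eq_one_of_chain dD core2.tab (GS core2) dC.bs dC.wss (words_mem core2) core2.chain hle
    hg hfix

set_option maxRecDepth 1000000 in
theorem cen_le : Nat.card ↥(grp cD cTab ⊓ Subgroup.centralizer {El cD cTab cE.kt}) ≤ cF.NC := by
  have h1 : fixCnt cD cE.kt = 56 := Nat.eq_of_beq_eq_true fix_c
  have h2 : cCj.length = 693 := Nat.eq_of_beq_eq_true cjlen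
  have h3 : cD.n = 4600 := by decide
  have h4 : cF.NC = 743178240 := by decide
  rw [h4]
  refine card_centralizer_le cD cTab cDwOK cTr 0 (by decide) tr_c cE.kt 0 (by decide) dC.bs
    (by decide) cCj cj_c 42305421312000 743178240 card_grp ?_ ?_
  · rw [h1, h2, h3]
  · rw [h2, h3]
    norm_num

theorem e_nn : ∀ N : Subgroup ↥(grp eD eCore.tab), N.Normal → IsPGroup 2 ↥N → N = ⊥ :=
  no_normal_two eD eCore.tab eCore.dw (by decide) (by decide) e_fix eTr 1 (by decide) e_tr

theorem e_card : 1451520 ≤ Nat.card ↥(grp eD eCore.tab) := card_ge eCore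

theorem e_gen (l : ℕ) (cols : ℕ → ℕ) (hm : matOf cols ∈ Matrix.symplecticGroup (Fin 3) (ZMod 2))
    (ha : ∀ j : Fin 64, T eD l j.val < 64 ∧
      Matrix.mulVec (matOf cols) (toV j.val) = toV (T eD l j.val)) :
    ∃ M : Sp6, muHom M = El eD eCore.tab l := by
  refine ⟨⟨matOf cols, hm⟩, ?_⟩
  apply perm_ext eD
  intro x
  exact muHom_eq_of ⟨matOf cols, hm⟩ (fun j => T eD l j) ha x

theorem e_iso : Nonempty (↥(grp eD eCore.tab) ≃* Sp6) := by
  refine iso_of_gens (grp eD eCore.tab) (Set.range fun l : Fin eD.L => El eD eCore.tab ↑l) rfl ?_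
    e_card
  rintro g ⟨l, rfl⟩
  obtain ⟨l, hl⟩ := l
  have hl' : l < 4 := hl
  interval_cases l
  · exact e_gen 0 eCols0 e_mem0 e_act0
  · exact e_gen 1 eCols1 e_mem1 e_act1
  · exact e_gen 2 eCols2 e_mem2 e_act2
  · exact e_gen 3 eCols3 e_mem3 e_act3

theorem goodC_c : GoodC ↥(grp cD cTab ⊓ Subgroup.centralizer {El cD cTab cE.kt}) := by
  obtain ⟨iso⟩ := e_iso
  exact goodC_main cTab eCore.tab base_c cDwOK eCore.dw qok cok cen_le 1451520 e_card (by decide)
    (by decide) (by decide) e_nn iso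

/-- the second Conway group has an involution whose centralizer is an extension of the symplectic
group of dimension 6 over the field of two elements by an extraspecial group of order `2 ^ 9`. -/
theorem co2_centralizer : ∃ t : ↥Spor.Co2, orderOf t = 2 ∧
    Cfsg.IsExtraspecial 2 ↥(Cfsg.pCore 2 ↥(Subgroup.centralizer {t})) ∧
    Nat.card ↥(Cfsg.pCore 2 ↥(Subgroup.centralizer {t})) = 2 ^ 9 ∧
    Nonempty (↥(Subgroup.centralizer {t}) ⧸ Cfsg.pCore 2 ↥(Subgroup.centralizer {t}) ≃*
      ↥(Matrix.symplecticGroup (Fin 3) (ZMod 2))) := by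
  obtain ⟨e⟩ := co2_iso.1
  have hg := goodC_c
  rw [grp_eq] at hg
  have hmem : El cD cTab cE.kt ∈ GS core2 := by
    rw [← grp_eq]
    exact El_mem cD cTab cDwOK cE.kt
  exact final_of_goodC (GS core2) e (El cD cTab cE.kt) hmem (q_tsq cTab qok) (q_t1 cTab qok) hg

end Cfsg.Agent.Helper9.Co2C

end
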